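import Mathlib.FieldTheory.IntermediateField.Adjoin.Basic
import Mathlib.RingTheory.Localization.FractionRing
import Mathlib.RingTheory.Localization.Integral
import Mathlib.RingTheory.Algebraic.Basic
import Mathlib.LinearAlgebra.Dimension.Finrank
import Mathlib.LinearAlgebra.Dimension.Finite

/-!
# The degree of a fraction field over a rational function field
-/

set_option autoImplicit false
set_option linter.unusedSectionVars false

open Polynomial

namespace K538.FracRank

variable {R A F L : Type*} [CommRing R] [IsDomain R] [CommRing A] [IsDomain A] [Algebra R A] [Field F] [Field L]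
  [Algebra R F] [IsFractionRing R F] [Algebra A L] [IsFractionRing A L] [Algebra F L] [Algebra R L]
  [IsScalarTower R F L] [IsScalarTower R A L] (x : A)

theorem aeval_map_eq (p : R[X]) : aeval (algebraMap A L x) (p.map (algebraMap R F)) =
    algebraMap A L (aeval x p) := by
  rw [aeval_map_algebraMap, aeval_algebraMap_apply]

/-- Clearing denominators of a polynomial. -/
theorem exists_clear (q : F[X]) : ∃ (b : R) (p : R[X]), b ≠ 0 ∧ C (algebraMap R F b) * q = p.map (algebraMap R F) := by
  obtain ⟨b, hb', hb⟩ := IsLocalization.integerNormalization_spec (nonZeroDivisors R) q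
  refine ⟨b, IsLocalization.integerNormalization (nonZeroDivisors R) q, nonZeroDivisors.ne_zero hb', ?_⟩
  rw [hb, Algebra.smul_def]
  congr 1

variable (hx : ∀ p : R[X], aeval x p = 0 → p = 0)

include hx

theorem transcendental : Transcendental F (algebraMap A L x) := by
  rintro ⟨q, hq, hq0⟩
  obtain ⟨b, p, hb, hp⟩ := exists_clear (R := R) q
  have h1 : algebraMap A L (aeval x p) = 0 := by
    rw [← aeval_map_eq (F := F), ← hp, map_mul, hq0, mul_zero]
  have h2 := hx p ((map_eq_zero_iff _ (IsFractionRing.injective A L)).mp h1)
  rw [h2, Polynomial.map_zero, mul_eq_zero] at hp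
  rcases hp with hp | hp
  · rw [C_eq_zero] at hp
    exact hb ((map_eq_zero_iff _ (IsFractionRing.injective R F)).mp hp)
  · exact hq hp

/-- Elements of `F(x)` as fractions of polynomials over `R`. -/
theorem exists_frac (c : L) (hc : c ∈ IntermediateField.adjoin F {algebraMap A L x}) :
    ∃ p q : R[X], q ≠ 0 ∧ algebraMap A L (aeval x q) * c = algebraMap A L (aeval x p) := by
  rw [IntermediateField.mem_adjoin_simple_iff] at hc
  obtain ⟨r, s, rfl⟩ := hc
  obtain ⟨b, p, hb, hp⟩ := exists_clear (R := R) r
  obtain ⟨b', q, hb', hq⟩ := exists_clear (R := R) s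
  by_cases hs : s = 0
  · refine ⟨0, 1, one_ne_zero, ?_⟩
    rw [hs]
    simp
  · have hs' : aeval (algebraMap A L x) s ≠ 0 := by
      intro h0
      exact transcendental (F := F) (L := L) x hx ⟨s, hs, h0⟩
    refine ⟨C b' * p, C b * q, ?_, ?_⟩
    · refine mul_ne_zero (C_ne_zero.mpr hb) ?_
      rintro rfl
      rw [Polynomial.map_zero, mul_eq_zero, C_eq_zero] at hq
      rcases hq with hq | hq
      · exact hb' ((map_eq_zero_iff _ (IsFractionRing.injective R F)).mp hq)
      · exact hs hq
    · rw [← aeval_map_eq (F := F), ← aeval_map_eq (F := F), Polynomial.map_mul, Polynomial.map_mul, map_C, map_C,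
        ← hp, ← hq]
      simp only [map_mul]
      field_simp

theorem finrank_eq (n : ℕ) (h1 : ∃ e : Fin n → A, ∀ c : Fin n → R[X], ∑ i, aeval x (c i) * e i = 0 → c = 0)
    (h2 : ∀ e : Fin (n + 1) → A, ∃ c : Fin (n + 1) → R[X], c ≠ 0 ∧ ∑ i, aeval x (c i) * e i = 0) :
    Module.finrank (IntermediateField.adjoin F {algebraMap A L x}) L = n := by
  classical
  let E := IntermediateField.adjoin F {algebraMap A L x}
  have hinj : Function.Injective (algebraMap A L) := IsFractionRing.injective A L
  have hE : ∀ p : R[X], algebraMap A L (aeval x p) ∈ E := by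
    intro p
    rw [← aeval_map_eq (F := F)]
    exact (IntermediateField.mem_adjoin_simple_iff F _).mpr ⟨p.map (algebraMap R F), 1, by simp⟩
  obtain ⟨e, he⟩ := h1
  have hind : LinearIndependent E (fun i => algebraMap A L (e i)) := by
    rw [Fintype.linearIndependent_iff]
    intro g hg
    choose p q hq hpq using fun i => exists_frac (F := F) x hx (g i : L) (g i).2
    have hsum : ∑ i, aeval x ((∏ j ∈ Finset.univ.erase i, q j) * p i) * e i = 0 := by
      apply hinj
      rw [map_zero, map_sum]
      have h3 : ∀ i, algebraMap A L (aeval x ((∏ j ∈ Finset.univ.erase i, q j) * p i) * e i) =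
          algebraMap A L (aeval x (∏ j, q j)) * ((g i : L) * algebraMap A L (e i)) := by
        intro i
        rw [← Finset.mul_prod_erase Finset.univ q (Finset.mem_univ i)]
        simp only [map_mul]
        rw [← hpq]
        ring
      simp only [h3]
      rw [← Finset.mul_sum]
      have h4 : ∑ i, (g i : L) * algebraMap A L (e i) = 0 := by
        rw [← hg]
        exact Finset.sum_congr rfl fun i _ => rfl
      rw [h4, mul_zero]
    have h5 := he _ hsum
    intro i
    have h6 := congrFun h5 i
    have h7 : (∏ j ∈ Finset.univ.erase i, q j) ≠ 0 := Finset.prod_ne_zero_iff.mpr fun j _ => hq j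
    have h8 : p i = 0 := (mul_eq_zero.mp h6).resolve_left h7
    have h9 := hpq i
    rw [h8, map_zero, map_zero, mul_eq_zero] at h9
    refine Subtype.ext (h9.resolve_left ?_)
    intro h10
    exact hq i (hx _ ((map_eq_zero_iff _ hinj).mp h10))
  have hle : Module.rank E L ≤ n := by
    refine rank_le fun s hs => ?_
    by_contra hcard
    push Not at hcard
    obtain ⟨t, hts, htc⟩ := Finset.exists_subset_card_eq (Nat.succ_le_of_lt hcard)
    let eq := Finset.equivFinOfCardEq htc
    let l : Fin (n + 1) → L := fun i => (eq.symm i : L)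
    have hl : LinearIndependent E l := by
      have h3 : LinearIndependent E (fun y : t => (y : L)) :=
        hs.comp (fun y : t => (⟨y.1, hts y.2⟩ : s)) (fun a b hab => Subtype.ext (congrArg (fun z : s => (z : L)) hab))
      exact h3.comp _ eq.symm.injective
    obtain ⟨b, hb⟩ := IsLocalization.exist_integer_multiples (nonZeroDivisors A) Finset.univ l
    choose a ha using fun i => hb i (Finset.mem_univ i)
    have hb0 : algebraMap A L b ≠ 0 := fun h0 => nonZeroDivisors.ne_zero b.2 ((map_eq_zero_iff _ hinj).mp h0)
    obtain ⟨c, hc, hc0⟩ := h2 a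
    apply hc
    rw [Fintype.linearIndependent_iff] at hl
    have h4 := hl (fun i => ⟨_, hE (c i)⟩) (by
      have h5 : ∀ i, algebraMap A L (a i) = algebraMap A L b * l i := by
        intro i
        rw [ha i, Algebra.smul_def]
      have h6 := congrArg (algebraMap A L) hc0
      rw [map_zero, map_sum] at h6
      simp only [map_mul, h5] at h6
      have h7 : algebraMap A L b * ∑ i, algebraMap A L (aeval x (c i)) * l i = 0 := by
        rw [← h6, Finset.mul_sum]
        refine Finset.sum_congr rfl fun i _ => ?_
        ring
      exact (mul_eq_zero.mp h7).resolve_left hb0)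
    funext i
    apply hx
    have h5 := congrArg Subtype.val (h4 i)
    exact (map_eq_zero_iff _ hinj).mp h5
  have hge : (n : Cardinal) ≤ Module.rank E L := by
    have := hind.cardinal_lift_le_rank
    simpa using this
  exact Module.finrank_eq_of_rank_eq (le_antisymm hle hge)

end K538.FracRank
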