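import Groth.Agent.Curves.K538.Charts
import Groth.Agent.Curves.K538.FracRank
import Groth.Agent.Curves.K888.SerPhi
import Groth.Agent.Curves.K363.NodePlace
import Groth.Agent.Curves.K433.DegNodes
import Mathlib.RingTheory.EssentialFiniteness
import Mathlib.RingTheory.AlgebraicIndependent.TranscendenceBasis

/-!
# The patched curve: chart rings and the degree of the second coordinate
-/

set_option autoImplicit false
set_option linter.unusedSectionVars false

universe u

open WithZero

namespace K538.Alg11480

open Groth.Agent.Models.FFRR Groth.Agent.MiscA.WCPlace Groth.Agent.MiscA.WCPlaceCrv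
  Groth.Agent.MiscA.WCPlaceRes K538.Patch K538.Charts

theorem adjoin_sub {k K : Type u} [Field k] [Field K] [Algebra k K] (x : K) (c : k) :
    IntermediateField.adjoin k {x - algebraMap k K c} = IntermediateField.adjoin k {x} := by
  apply le_antisymm
  · rw [IntermediateField.adjoin_simple_le_iff]
    exact sub_mem (IntermediateField.mem_adjoin_simple_self k x) (IntermediateField.algebraMap_mem _ c)
  · rw [IntermediateField.adjoin_simple_le_iff]
    have := add_mem (IntermediateField.mem_adjoin_simple_self k (x - algebraMap k K c))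
      (IntermediateField.algebraMap_mem (IntermediateField.adjoin k {x - algebraMap k K c}) c)
    rwa [sub_add_cancel] at this

theorem isSep_sub {k K : Type u} [Field k] [Field K] [Algebra k K] {x : K} (hx : IsSep k K x) (c : k) :
    IsSep k K (x - algebraMap k K c) where
  tr := by
    intro h
    apply hx.tr
    have := h.add (isAlgebraic_algebraMap c)
    rwa [sub_add_cancel] at this
  fin := by rw [adjoin_sub]; exact hx.fin
  sep := by rw [adjoin_sub]; exact hx.sep

theorem exists_family {k K : Type u} [Field k] [IsAlgClosed k] [Field K] [Algebra k K] (x : K) (hx : IsSep k K x)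
    (d : ℕ) (hd : Module.finrank (IntermediateField.adjoin k {x}) K = d) :
    ∃ (w : PowerSeries K) (A0 A1 : Subalgebra (PowerSeries k) (PowerSeries K)), Charts k K w A0 A1 ∧
      ∃ y : A0, (∃ e : Fin (d + 1) → A0, ∀ c : Fin (d + 1) → Polynomial (PowerSeries k),
          ∑ i, Polynomial.aeval y (c i) * e i = 0 → c = 0) ∧
        ∀ e : Fin (d + 1 + 1) → A0, ∃ c : Fin (d + 1 + 1) → Polynomial (PowerSeries k), c ≠ 0 ∧
          ∑ i, Polynomial.aeval y (c i) * e i = 0 := by
  classical
  obtain ⟨⟨c, P₀, hP₀⟩, -⟩ := K363.NodePlace.exists_place k K x hx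
  have hx' := isSep_sub hx c
  set x' := x - algebraMap k K c with hx'def
  have hd' : Module.finrank (IntermediateField.adjoin k {x'}) K = d := by
    rw [hx'def, adjoin_sub]
    exact hd
  obtain ⟨-, D, hD, hDle, hDeq, hdeg⟩ := K363.NodePlace.exists_place k K x' hx'
  rw [hd'] at hdeg
  set h : ∃ t : K, IsSep k K t := ⟨x', hx'⟩ with hdef
  have hx0 : x' ≠ 0 := hx'.ne_zero
  obtain ⟨Φ₀, hΦ1, hΦ2, hΦ3, hΦ4⟩ := K888.SerPhi.exists_Φ k K x' hx'
    (PowerSeries.C x' - PowerSeries.X * PowerSeries.C x'⁻¹) (by simp)
  let G : Glue k K (Place k K) :=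
    { Φ := fun P => if P = P₀ then Φ₀ else RingHom.id _
      const := by
        intro P f
        split_ifs
        · exact hΦ1 f
        · rfl
      map_X := by
        intro P
        split_ifs
        · exact hΦ2
        · rfl
      map_alg := by
        intro P c
        split_ifs
        · exact hΦ3 c
        · rfl
      finite := by
        refine (Set.finite_singleton P₀).subset ?_
        intro P hP
        by_contra hne
        exact hP (if_neg hne) }
  have hGP : G.Φ P₀ = Φ₀ := if_pos rfl
  have hGne : ∀ P, P ≠ P₀ → G.Φ P = RingHom.id _ := fun P hP => if_neg hP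
  have hDP : D P₀ = 0 := by
    by_contra hne
    have h1 := hDeq P₀ hne
    rw [hP₀] at h1
    have h2 := exp_injective h1
    have h3 : 0 ≤ D P₀ := hD P₀
    lia
  let D₁ : Place k K →₀ ℤ := D + Finsupp.single P₀ 1
  have hD₁ : 0 ≤ D₁ := add_nonneg hD (Finsupp.single_nonneg.mpr zero_le_one)
  have hD₁P : D₁ P₀ = 1 := by simp [D₁, hDP]
  have hD₁ne : ∀ P, P ≠ P₀ → D₁ P = D P := by
    intro P hP
    simp [D₁, Finsupp.single_eq_of_ne hP]
  have hD₁0 : D₁ ≠ 0 := by
    intro h0
    rw [h0] at hD₁P
    simp at hD₁P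
  have hdegD : (crv h).deg D₁ = d + 1 := by
    rw [map_add, Crv.deg_single, dg0_eq_one]
    rw [hdeg]
    simp
  obtain ⟨w, A0, A1, H, hA0⟩ := exists_charts h G hD₁ hD₁0
  have := nonempty_place h
  obtain ⟨⟨e, he, he'⟩, h2⟩ := K433.DegNodes.deg_nodes (crv_fin h) G (l_zero_eq_one_of_isAlgClosed h) x' P₀ D₁ d hdegD
    hD₁ (by rw [hGP, hΦ4]) hGne hP₀ hD₁P (fun P hP => by rw [hD₁ne P hP]; exact hDle P)
    (fun P hP hne => by rw [hD₁ne P hP] at hne ⊢; exact hDeq P hne)
  have hxA : PowerSeries.C x' ∈ A0 := by
    rw [hA0]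
    refine ⟨1, ?_⟩
    rw [one_nsmul, mem_M]
    intro P
    by_cases hP : P = P₀
    · subst hP
      rw [hGP, hΦ4, hD₁P]
      intro i
      have hval : (crv h).v P x' = exp (-1 : ℤ) := hP₀
      have hval' : (crv h).v P x'⁻¹ = exp (1 : ℤ) := by
        rw [map_inv₀, hval, ← exp_neg, neg_neg]
      rw [map_sub, PowerSeries.coeff_C]
      refine ((crv h).v P).map_sub _ _ |>.trans (max_le ?_ ?_)
      · split_ifs
        · rw [hval, exp_le_exp]
          lia
        · rw [map_zero]
          exact zero_le
      · rcases i with _ | i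
        · simp
        · rw [PowerSeries.coeff_succ_X_mul, PowerSeries.coeff_C]
          split_ifs
          · exact hval'.le
          · rw [map_zero]
            exact zero_le
    · rw [hGne P hP, hD₁ne P hP]
      intro i
      change (crv h).v P (PowerSeries.coeff i (PowerSeries.C x')) ≤ _
      rw [PowerSeries.coeff_C]
      split_ifs
      · exact hDle P
      · rw [map_zero]
        exact zero_le
  refine ⟨w, A0, A1, H, ⟨PowerSeries.C x', hxA⟩, ⟨fun i => ⟨e i, (hA0 _).mpr (he i)⟩, ?_⟩, ?_⟩
  · intro c hc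
    apply he' c
    have h3 := congrArg (A0.val : A0 →+* PowerSeries K) hc
    rw [map_sum, map_zero] at h3
    rw [← h3]
    refine Finset.sum_congr rfl fun i _ => ?_
    rw [map_mul]
    congr 1
    exact Polynomial.aeval_algHom_apply A0.val (⟨PowerSeries.C x', hxA⟩ : A0) (c i)
  · intro e'
    obtain ⟨c, hc, hc'⟩ := h2 (fun i => (e' i : PowerSeries K)) (fun i => (hA0 _).mp (e' i).2)
    refine ⟨c, hc, Subtype.ext ?_⟩
    change (A0.val : A0 →+* PowerSeries K) _ = _
    rw [map_sum]
    refine Eq.trans ?_ hc'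
    refine Finset.sum_congr rfl fun i _ => ?_
    rw [map_mul]
    congr 1
    exact (Polynomial.aeval_algHom_apply A0.val (⟨PowerSeries.C x', hxA⟩ : A0) (c i)).symm

end K538.Alg11480
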