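import Groth.Agent.Curves.K538.PatchSp

/-!
# The chart rings of a patched curve
-/

set_option autoImplicit false

universe u

open WithZero

namespace K538.Charts

open Groth.Agent.Models.FFRR Groth.Agent.MiscA.WCPlace Groth.Agent.MiscA.WCPlaceCrv
  Groth.Agent.MiscA.WCPlaceRes K538.Patch

/-- The data of the two chart rings of a curve over `k⟦X⟧`, inside `K⟦X⟧`. -/
structure Charts (k K : Type u) [Field k] [Field K] [Algebra k K] (w : PowerSeries K)
    (A0 A1 : Subalgebra (PowerSeries k) (PowerSeries K)) : Prop where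
  ne : PowerSeries.constantCoeff w ≠ 0
  tr : Transcendental k (PowerSeries.constantCoeff w)
  w_mem : w ∈ A0
  winv_mem : w⁻¹ ∈ A1
  X0 : ∀ f, PowerSeries.X * f ∈ A0 → f ∈ A0
  X1 : ∀ f, PowerSeries.X * f ∈ A1 → f ∈ A1
  gen0 : ∃ s : Finset (PowerSeries K), (∀ x ∈ s, x ∈ A0) ∧
    ∀ f ∈ A0, ∃ p : PowerSeries K → Polynomial (PowerSeries k), f = ∑ x ∈ s, Polynomial.aeval w (p x) * x
  gen1 : ∃ s : Finset (PowerSeries K), (∀ x ∈ s, x ∈ A1) ∧
    ∀ f ∈ A1, ∃ p : PowerSeries K → Polynomial (PowerSeries k), f = ∑ x ∈ s, Polynomial.aeval w⁻¹ (p x) * x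
  to1 : ∀ f ∈ A0, ∃ n : ℕ, w⁻¹ ^ n * f ∈ A1
  to0 : ∀ f ∈ A1, ∃ n : ℕ, w ^ n * f ∈ A0
  int0 : ∀ a ∈ A0, a ≠ 0 → ∀ g, a * g ∈ A0 → IsIntegral A0 g → g ∈ A0
  int1 : ∀ a ∈ A1, a ≠ 0 → ∀ g, a * g ∈ A1 → IsIntegral A1 g → g ∈ A1
  sp0 : ∀ y : K, IsIntegral (Algebra.adjoin k {PowerSeries.constantCoeff w}) y ↔
    ∃ f ∈ A0, PowerSeries.constantCoeff f = y
  sp1 : ∀ y : K, IsIntegral (Algebra.adjoin k {(PowerSeries.constantCoeff w)⁻¹}) y ↔
    ∃ f ∈ A1, PowerSeries.constantCoeff f = y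

theorem exists_charts {k K : Type u} [Field k] [IsAlgClosed k] [Field K] [Algebra k K]
    (h : ∃ t : K, IsSep k K t) (G : Glue k K (Place k K)) {D : Place k K →₀ ℤ} (hD : 0 ≤ D) (hD0 : D ≠ 0) :
    ∃ (w : PowerSeries K) (A0 A1 : Subalgebra (PowerSeries k) (PowerSeries K)), Charts k K w A0 A1 ∧
      ∀ f, f ∈ A0 ↔ ∃ n : ℕ, f ∈ M (crv h) G (n • D) := by
  have hC := crv_fin h
  have hne := nonempty_place h
  -- a large multiple of `D`
  obtain ⟨c, hc0, hc⟩ := hC.exists_bound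
  have hdeg := hC.deg_pos hD hD0
  have hgood : ∀ n : ℕ, c.toNat ≤ n → Good (crv h) (n • D) := by
    intro n hn
    refine good_of_i_eq_zero (crv h) hC (hc _ ?_)
    rw [map_nsmul, nsmul_eq_mul]
    have h1 : c = c.toNat := (Int.toNat_of_nonneg hc0).symm
    have h2 : (c.toNat : ℤ) ≤ n := by exact_mod_cast hn
    nlinarith
  set e := c.toNat with he
  have hE : 0 ≤ (e + 1) • D := nsmul_nonneg hD _
  set E := (e + 1) • D with hEdef
  obtain ⟨w0, hw0, hw0'⟩ := exists_w hD (hgood e le_rfl)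
  have hgE : ∀ n : ℕ, 0 < n → Good (crv h) (n • E) := by
    intro n hn
    rw [hEdef, ← mul_nsmul']
    refine hgood _ ?_
    nlinarith
  have hgE1 : Good (crv h) E := by
    have := hgE 1 one_pos
    rwa [one_nsmul] at this
  obtain ⟨w, hw, hww⟩ := exists_lift G hgE1 ((crv h).mem_L.mpr hw0)
  have hw' : ∀ P, E P ≠ 0 → (crv h).v P (PowerSeries.constantCoeff w) = exp (E P) := by
    intro P hP
    rw [hww]
    exact hw0' P hP
  have hwle : ∀ P, (crv h).v P (PowerSeries.constantCoeff w) ≤ exp (E P) := by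
    intro P
    rw [hww]
    exact hw0 P
  obtain ⟨P, hP⟩ : ∃ P, D P ≠ 0 := by
    by_contra hn
    push Not at hn
    exact hD0 (Finsupp.ext hn)
  have hEP : E P ≠ 0 := by
    rw [hEdef]
    simp only [Finsupp.coe_smul, Pi.smul_apply, nsmul_eq_mul]
    have : ((e + 1 : ℕ) : ℤ) ≠ 0 := by positivity
    exact mul_ne_zero this hP
  have hc1 : PowerSeries.constantCoeff w ≠ 0 := by
    intro h0
    have := hw' P hEP
    rw [h0, map_zero] at this
    exact exp_ne_zero this.symm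
  have hwne : w ≠ 0 := by
    rintro rfl
    exact hc1 (map_zero _)
  have hww1 : w * w⁻¹ = 1 := PowerSeries.mul_inv_cancel w hc1
  have hwn : ∀ n : ℕ, w ^ n * w⁻¹ ^ n = 1 := fun n => by rw [← mul_pow, hww1, one_pow]
  have htr : Transcendental k (PowerSeries.constantCoeff w) := by
    intro halg
    have h1 := mem_of_isAlgebraic halg P
    rw [← val_le_one_iff' h, hw' P hEP, ← exp_zero, exp_le_exp] at h1
    have : 0 ≤ E P := hE P
    lia
  refine ⟨w, A0 (crv h) G E hE, A1 (crv h) G E hw, ?_, ?_⟩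
  · refine ⟨hc1, htr, ⟨1, by rwa [one_nsmul]⟩, ⟨1, ?_⟩, ?_, ?_, ?_, ?_, ?_, ?_, ?_, ?_, ?_, ?_⟩
    · rw [pow_one, hww1, one_nsmul]
      exact M_mono _ G hE (one_mem_M _ G)
    · rintro f ⟨n, hf⟩
      exact ⟨n, (mem_M_X_mul _ G).mp hf⟩
    · rintro f ⟨n, hf⟩
      refine ⟨n, (mem_M_X_mul _ G).mp ?_⟩
      have h1 : PowerSeries.X * (w ^ n * f) = w ^ n * (PowerSeries.X * f) := by ring
      rw [h1]
      exact hf
    · exact A0_gen hC hE hw hw' (m := 1) (hgE 1 one_pos)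
    · exact A1_gen hC hE hw hw' (m := 1) (hgE 1 one_pos) hc1
    · rintro f ⟨n, hf⟩
      refine ⟨n, n, ?_⟩
      rw [← mul_assoc, hwn, one_mul]
      exact hf
    · rintro f ⟨n, hf⟩
      exact ⟨n, n, hf⟩
    · intro a ha ha0 g hag hg
      exact mem_A0_of_integral hE ha hag ha0 rfl hg
    · intro a ha ha0 g hag hg
      exact mem_A1_of_integral hE hw hw' hwne ha hag ha0 rfl hg
    · intro y
      rw [integral_iff0 h hE hwle hw']
      constructor
      · rintro ⟨n, hn⟩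
        have h1 : y ∈ (crv h).L ((n + 1) • E) := (crv h).L_mono (nsmul_le hE (by lia)) hn
        obtain ⟨f, hf, hfy⟩ := exists_lift G (hgE (n + 1) (by lia)) h1
        exact ⟨f, ⟨n + 1, hf⟩, hfy⟩
      · rintro ⟨f, ⟨n, hf⟩, rfl⟩
        exact ⟨n, const_mem_L _ G hf⟩
    · intro y
      rw [integral_iff1 h hE hwle hw' hc1]
      constructor
      · rintro ⟨n, hn⟩
        have h1 : PowerSeries.constantCoeff w ^ (n + 1) * y ∈ (crv h).L ((n + 1) • E) := by
          rw [Crv.mem_L] at hn ⊢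
          intro P
          have h2 := mul_le_mul' (hwle P) (hn P)
          rw [← map_mul, ← exp_add, ← mul_assoc, ← pow_succ'] at h2
          refine h2.trans (le_of_eq ?_)
          congr 1
          rw [succ_nsmul', Finsupp.add_apply]
        obtain ⟨f, hf, hfy⟩ := exists_lift G (hgE (n + 1) (by lia)) h1
        refine ⟨w⁻¹ ^ (n + 1) * f, ⟨n + 1, ?_⟩, ?_⟩
        · rw [← mul_assoc, hwn, one_mul]
          exact hf
        · rw [map_mul, hfy, ← mul_assoc, map_pow, ← mul_pow, PowerSeries.constantCoeff_inv,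
            inv_mul_cancel₀ hc1, one_pow, one_mul]
      · rintro ⟨f, ⟨n, hf⟩, rfl⟩
        refine ⟨n, ?_⟩
        have := const_mem_L _ G hf
        rwa [map_mul, map_pow] at this
  · intro f
    constructor
    · rintro ⟨n, hf⟩
      refine ⟨n * (e + 1), ?_⟩
      rw [mul_nsmul']
      exact hf
    · rintro ⟨n, hf⟩
      refine ⟨n, M_mono _ G ?_ hf⟩
      rw [hEdef, ← mul_nsmul']
      exact nsmul_le hD (by nlinarith)

end K538.Charts
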