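import Mathlib.RingTheory.EssentialFiniteness
import Mathlib.RingTheory.AlgebraicIndependent.TranscendenceBasis
import Mathlib.RingTheory.AlgebraicIndependent.AlgebraicClosure
import Mathlib.FieldTheory.IntermediateField.Adjoin.Algebra
import Mathlib.RingTheory.PowerSeries.Basic
import Mathlib.RingTheory.Localization.FractionRing

/-!
# Fields finite over a simple transcendental extension
-/

set_option autoImplicit false

universe u

namespace K538.FieldLem

variable {F L : Type u} [Field F] [Field L] [Algebra F L]

theorem essFiniteType (x : L) [FiniteDimensional (IntermediateField.adjoin F {x}) L] :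
    Algebra.EssFiniteType F L := by
  have h1 : Algebra.EssFiniteType F (IntermediateField.adjoin F {x}) :=
    IntermediateField.essFiniteType_iff.mpr ⟨{x}, by simp⟩
  exact Algebra.EssFiniteType.comp F (IntermediateField.adjoin F {x}) L

theorem trdeg_eq_one (x : L) (hx : Transcendental F x) [FiniteDimensional (IntermediateField.adjoin F {x}) L] :
    Algebra.trdeg F L = 1 := by
  have h1 : Algebra.IsAlgebraic (Algebra.adjoin F {x}) L := by
    have h2 : Algebra.IsAlgebraic (IntermediateField.adjoin F {x}) L := inferInstance
    exact (IntermediateField.isAlgebraic_adjoin_iff_top).mp h2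
  have h2 : Algebra.trdeg F L ≤ Cardinal.mk ({x} : Set L) := Algebra.IsAlgebraic.trdeg_le_cardinalMk F {x}
  rw [Cardinal.mk_singleton] at h2
  have h3 : Algebra.Transcendental F L := ⟨x, hx⟩
  have h4 : 0 < Algebra.trdeg F L := trdeg_pos F L
  refine le_antisymm h2 ?_
  rwa [Cardinal.one_le_iff_pos]

end K538.FieldLem
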