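import Groth.Agent.Curves.K538.ModelMain
import Groth.Agent.Curves.K538.Alg11480
import Groth.Agent.Curves.K538.FieldLem
import Groth.Agent.Curves.K722.P1Map

/-!
# The family of curves over `k⟦X⟧` with a generic fibre of degree `d + 1` over the line
-/

set_option autoImplicit false
set_option linter.unusedSectionVars false

universe u

open CategoryTheory CategoryTheory.Limits AlgebraicGeometry

namespace K538.Fam11480

open Groth.Agent.Models.FFRR Groth.Agent.MiscA.WCPlace Groth.Agent.MiscA.WCPlaceCrv K538.Patch K538.Charts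

theorem exists_fam_aux {k K : Type u} [Field k] [IsAlgClosed k] [Field K] [Algebra k K] (x : K) (hx : IsSep k K x)
    (d : ℕ) (w : PowerSeries K) (A0 A1 : Subalgebra (PowerSeries k) (PowerSeries K)) (H : Charts k K w A0 A1) (y : A0)
    (h1 : ∃ e : Fin (d + 1) → A0, ∀ c : Fin (d + 1) → Polynomial (PowerSeries k),
          ∑ i, Polynomial.aeval y (c i) * e i = 0 → c = 0)
    (h2 : ∀ e : Fin (d + 1 + 1) → A0, ∃ c : Fin (d + 1 + 1) → Polynomial (PowerSeries k), c ≠ 0 ∧
          ∑ i, Polynomial.aeval y (c i) * e i = 0)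
    (C₀ : Scheme.{u}) (g₀ : C₀ ⟶ Spec (CommRingCat.of k)) [IsIntegral C₀] [IsProper g₀]
    (hv : ∀ x : C₀, ValuationRing (C₀.presheaf.stalk x)) (e : Spec C₀.functionField ≅ Spec (CommRingCat.of K))
    (he : e.hom ≫ Spec.map (CommRingCat.ofHom (algebraMap k K)) = C₀.fromSpecStalk (genericPoint C₀) ≫ g₀)
    (F : Type u) [Field F] [Algebra (PowerSeries k) F] [IsFractionRing (PowerSeries k) F]
    (L : Type u) [Field L] [Algebra A0 L] [IsFractionRing A0 L] [Algebra F L] [Algebra (PowerSeries k) L]
    [IsScalarTower (PowerSeries k) F L] [IsScalarTower (PowerSeries k) A0 L] :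
    ∃ (X : Scheme.{u}) (p : X ⟶ Spec (CommRingCat.of (PowerSeries k))) (i : C₀ ⟶ X), IsProper p ∧ Flat p ∧
      IsPullback i g₀ p (Spec.map (CommRingCat.ofHom (PowerSeries.constantCoeff (R := k)))) ∧
      ∃ ρ : pullback p (Spec.map (CommRingCat.ofHom (algebraMap (PowerSeries k) F))) ⟶ CohB1.ProjSpace 1 F,
        ρ ≫ CohB1.ProjSpace.toSpec 1 F = pullback.snd _ _ ∧ Mor2.IsFinLocFreeOfDeg (d + 1) ρ := by
  classical
  have hfinK : FiniteDimensional (IntermediateField.adjoin k {x}) K := hx.fin
  have hessK : Algebra.EssFiniteType k K := FieldLem.essFiniteType x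
  have htrK : Algebra.trdeg k K = 1 := FieldLem.trdeg_eq_one x hx.tr
  obtain ⟨e1, he1⟩ := h1
  have hFL : ∀ c : PowerSeries k, algebraMap F L (algebraMap _ F c) = algebraMap A0 L (algebraMap _ A0 c) := by
    intro c
    rw [← IsScalarTower.algebraMap_apply (PowerSeries k) F L, ← IsScalarTower.algebraMap_apply (PowerSeries k) A0 L]
  have hy : ∀ q : Polynomial (PowerSeries k), Polynomial.aeval y q = 0 → q = 0 := by
    intro q hq
    have h3 := he1 (Pi.single 0 q) (by
      refine Finset.sum_eq_zero fun i _ => ?_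
      by_cases hi : i = 0
      · subst hi
        rw [Pi.single_eq_same, hq, zero_mul]
      · rw [Pi.single_eq_of_ne hi, map_zero, zero_mul])
    have h4 := congrFun h3 0
    rwa [Pi.single_eq_same] at h4
  have htr : Transcendental F (algebraMap A0 L y) := FracRank.transcendental (R := PowerSeries k) y hy
  have hrank : Module.finrank (IntermediateField.adjoin F {algebraMap A0 L y}) L = d + 1 :=
    FracRank.finrank_eq (R := PowerSeries k) y hy (d + 1) ⟨e1, he1⟩ h2
  have hfin : FiniteDimensional (IntermediateField.adjoin F {algebraMap A0 L y}) L :=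
    Module.finite_of_finrank_pos (by rw [hrank]; exact Nat.succ_pos d)
  have hess : Algebra.EssFiniteType F L := FieldLem.essFiniteType (algebraMap A0 L y)
  have htrL : Algebra.trdeg F L = 1 := FieldLem.trdeg_eq_one (algebraMap A0 L y) htr
  obtain ⟨X, p, i, hp, hfl, hi, hint, hval, e2, he2⟩ :=
    ModelMain.exists_model k K htrK w A0 A1 H C₀ g₀ hv e he F L hFL
  obtain ⟨ρ, hρ, hdeg⟩ := K722.P1Map.exists_P1_map F (pullback.snd p
    (Spec.map (CommRingCat.ofHom (algebraMap (PowerSeries k) F)))) hval L htrL e2 he2 (algebraMap A0 L y) htr (d + 1) hrank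
  exact ⟨X, p, i, hp, hfl, hi, ρ, hρ, hdeg⟩

theorem exists_fam {k K : Type u} [Field k] [IsAlgClosed k] [Field K] [Algebra k K] (x : K) (hx : IsSep k K x)
    (d : ℕ) (hd : Module.finrank (IntermediateField.adjoin k {x}) K = d)
    (C₀ : Scheme.{u}) (g₀ : C₀ ⟶ Spec (CommRingCat.of k)) [IsIntegral C₀] [IsProper g₀]
    (hv : ∀ x : C₀, ValuationRing (C₀.presheaf.stalk x)) (e : Spec C₀.functionField ≅ Spec (CommRingCat.of K))
    (he : e.hom ≫ Spec.map (CommRingCat.ofHom (algebraMap k K)) = C₀.fromSpecStalk (genericPoint C₀) ≫ g₀) :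
    ∃ (X : Scheme.{u}) (p : X ⟶ Spec (CommRingCat.of (PowerSeries k))) (i : C₀ ⟶ X), IsProper p ∧ Flat p ∧
      IsPullback i g₀ p (Spec.map (CommRingCat.ofHom (PowerSeries.constantCoeff (R := k)))) ∧
      ∃ ρ : pullback p (Spec.map (CommRingCat.ofHom (algebraMap (PowerSeries k) (FractionRing (PowerSeries k))))) ⟶
          CohB1.ProjSpace 1 (FractionRing (PowerSeries k)),
        ρ ≫ CohB1.ProjSpace.toSpec 1 (FractionRing (PowerSeries k)) = pullback.snd _ _ ∧
          Mor2.IsFinLocFreeOfDeg (d + 1) ρ := by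
  obtain ⟨w, A0, A1, H, y, h1, h2⟩ := Alg11480.exists_family x hx d hd
  have hinj : Function.Injective (algebraMap (PowerSeries k) (FractionRing A0)) := by
    rw [IsScalarTower.algebraMap_eq (PowerSeries k) A0 (FractionRing A0)]
    exact ModelGen.phi_injective (FractionRing A0)
  have : FaithfulSMul (PowerSeries k) (FractionRing A0) := (faithfulSMul_iff_algebraMap_injective _ _).mpr hinj
  let _ : Algebra (FractionRing (PowerSeries k)) (FractionRing A0) := FractionRing.liftAlgebra _ _
  exact exists_fam_aux x hx d w A0 A1 H y h1 h2 C₀ g₀ hv e he (FractionRing (PowerSeries k)) (FractionRing A0)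

end K538.Fam11480
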