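import Groth.Agent.Curves.K538.Charts
import Groth.Agent.Ega2.NormChart
import Mathlib.RingTheory.Localization.Integral
import Mathlib.RingTheory.PowerSeries.Inverse

/-!
# The integral closures in the fraction field of the first chart ring
-/

set_option autoImplicit false

universe u

open PowerSeries

namespace K538.ModelAlg

open Groth.Agent.Ega2.NormChart (isIntegralElem_of_range_le)

variable {k K : Type u} [Field k] [Field K] [Algebra k K] {L : Type u} [Field L]

local notation "Ω" => FractionRing (PowerSeries K)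

/-- Elements of a finite algebra over `k⟦X⟧[w]` are integral. -/
theorem isIntegralElem_of_gen (A' : Subalgebra (PowerSeries k) (PowerSeries K)) (w' : PowerSeries K)
    (hw : w' ∈ A') (s : Finset (PowerSeries K)) (hs : ∀ x ∈ s, x ∈ A')
    (hgen : ∀ f ∈ A', ∃ p : PowerSeries K → Polynomial (PowerSeries k),
      f = ∑ x ∈ s, Polynomial.aeval w' (p x) * x) {f : PowerSeries K} (hf : f ∈ A') :
    ((Polynomial.aeval w' : Polynomial (PowerSeries k) →ₐ[PowerSeries k] PowerSeries K) :
      Polynomial (PowerSeries k) →+* PowerSeries K).IsIntegralElem f := by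
  classical
  let σ : Polynomial (PowerSeries k) →+* A' :=
    ((Polynomial.aeval (⟨w', hw⟩ : A') : Polynomial (PowerSeries k) →ₐ[PowerSeries k] A') :
      Polynomial (PowerSeries k) →+* A')
  have hσ : ∀ p, ((σ p : A') : PowerSeries K) = Polynomial.aeval w' p := by
    intro p
    have := Polynomial.aeval_algHom_apply A'.val (⟨w', hw⟩ : A') p
    exact this.symm
  have hfin : σ.Finite := by
    let := σ.toAlgebra
    change Module.Finite (Polynomial (PowerSeries k)) A'
    refine ⟨⟨s.attach.image fun x => ⟨x.1, hs x.1 x.2⟩, ?_⟩⟩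
    rw [eq_top_iff]
    rintro z -
    obtain ⟨p, hp⟩ := hgen z z.2
    have hz : z = ∑ y ∈ s.attach, (p y.1) • (⟨y.1, hs y.1 y.2⟩ : A') := by
      apply Subtype.ext
      rw [hp, ← Finset.sum_attach s, AddSubmonoidClass.coe_finset_sum]
      refine Finset.sum_congr rfl fun y _ => ?_
      rw [Algebra.smul_def]
      change _ = ((σ (p y.1) : A') : PowerSeries K) * _
      rw [hσ]
    rw [hz]
    refine Submodule.sum_mem _ fun y _ => Submodule.smul_mem _ _ (Submodule.subset_span ?_)
    rw [Finset.mem_coe, Finset.mem_image]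
    exact ⟨y, Finset.mem_attach _ _, rfl⟩
  obtain ⟨p, hp, hpf⟩ := hfin.to_isIntegral ⟨f, hf⟩
  refine ⟨p, hp, ?_⟩
  have h1 := congrArg A'.val hpf
  have h2 : (A'.val : A' →+* PowerSeries K).comp σ = ((Polynomial.aeval w' : Polynomial (PowerSeries k) →ₐ[PowerSeries k] PowerSeries K) :
      Polynomial (PowerSeries k) →+* PowerSeries K) := RingHom.ext hσ
  rw [← h2]
  have h3 := Polynomial.hom_eval₂ p σ (A'.val : A' →+* PowerSeries K) ⟨f, hf⟩
  rw [hpf, map_zero] at h3
  exact h3.symm

theorem integral_iff (A' : Subalgebra (PowerSeries k) (PowerSeries K)) (w' : PowerSeries K)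
    (hw : w' ∈ A') (hgen : ∃ s : Finset (PowerSeries K), (∀ x ∈ s, x ∈ A') ∧ ∀ f ∈ A', ∃ p : PowerSeries K → Polynomial (PowerSeries k),
      f = ∑ x ∈ s, Polynomial.aeval w' (p x) * x)
    (hint : ∀ a ∈ A', a ≠ 0 → ∀ g, a * g ∈ A' → IsIntegral A' g → g ∈ A')
    (θ : L →+* Ω) (φ : PowerSeries k →+* L)
    (hφ : ∀ c, θ (φ c) = algebraMap (PowerSeries K) Ω (algebraMap (PowerSeries k) (PowerSeries K) c))
    (s : L) (hs : θ s = algebraMap (PowerSeries K) Ω w')
    (hfrac : ∀ y : L, ∃ a ∈ A', a ≠ 0 ∧ ∃ b ∈ A', algebraMap (PowerSeries K) Ω a * θ y = algebraMap (PowerSeries K) Ω b)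
    (y : L) : (Polynomial.eval₂RingHom φ s).IsIntegralElem y ↔
      ∃ f ∈ A', algebraMap (PowerSeries K) Ω f = θ y := by
  have hinj : Function.Injective (algebraMap (PowerSeries K) Ω) := IsFractionRing.injective _ _
  let ev : Polynomial (PowerSeries k) →+* PowerSeries K :=
    ((Polynomial.aeval w' : Polynomial (PowerSeries k) →ₐ[PowerSeries k] PowerSeries K) :
      Polynomial (PowerSeries k) →+* PowerSeries K)
  have hcomp : θ.comp (Polynomial.eval₂RingHom φ s) = (algebraMap (PowerSeries K) Ω).comp ev := by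
    apply Polynomial.ringHom_ext
    · intro c
      simp only [RingHom.comp_apply, Polynomial.coe_eval₂RingHom, Polynomial.eval₂_C, hφ]
      congr 1
      exact (Polynomial.aeval_C w' c).symm
    · simp only [RingHom.comp_apply, Polynomial.coe_eval₂RingHom, Polynomial.eval₂_X, hs]
      congr 1
      exact (Polynomial.aeval_X w').symm
  -- transfer of integrality
  have key : ∀ g : PowerSeries K, algebraMap (PowerSeries K) Ω g = θ y →
      ((Polynomial.eval₂RingHom φ s).IsIntegralElem y ↔ ev.IsIntegralElem g) := by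
    intro g hg
    constructor
    · rintro ⟨p, hp, hpy⟩
      refine ⟨p, hp, hinj ?_⟩
      rw [map_zero, Polynomial.hom_eval₂, ← hcomp, hg, ← Polynomial.hom_eval₂, hpy, map_zero]
    · rintro ⟨p, hp, hpg⟩
      refine ⟨p, hp, θ.injective ?_⟩
      rw [map_zero, Polynomial.hom_eval₂, hcomp, ← hg, ← Polynomial.hom_eval₂, hpg, map_zero]
  constructor
  · intro hy
    have h1 : ((algebraMap (PowerSeries K) Ω).comp ev).IsIntegralElem (θ y) := by
      rw [← hcomp]
      obtain ⟨p, hp, hpy⟩ := hy
      refine ⟨p, hp, ?_⟩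
      rw [← Polynomial.hom_eval₂, hpy, map_zero]
    have h2 : IsIntegral (PowerSeries K) (θ y) :=
      isIntegralElem_of_range_le _ _ (by
        rintro _ ⟨p, rfl⟩
        exact ⟨ev p, rfl⟩) h1
    obtain ⟨g, hg⟩ := (isIntegrallyClosed_iff Ω).mp inferInstance h2
    refine ⟨g, ?_, hg⟩
    obtain ⟨a, ha, ha0, b, hb, hab⟩ := hfrac y
    rw [← hg, ← map_mul] at hab
    have hab' := hinj hab
    refine hint a ha ha0 g (by rw [hab']; exact hb) ?_
    have h3 := (key g hg).mp hy
    refine isIntegralElem_of_range_le ev (algebraMap A' (PowerSeries K)) ?_ h3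
    rintro _ ⟨p, rfl⟩
    refine ⟨⟨ev p, ?_⟩, rfl⟩
    change Polynomial.aeval w' p ∈ A'
    rw [Polynomial.aeval_eq_sum_range]
    exact A'.sum_mem fun i _ => A'.smul_mem (A'.pow_mem hw _) _
  · rintro ⟨f, hf, hfy⟩
    rw [key f hfy]
    obtain ⟨s', hs', hgen⟩ := hgen
    exact isIntegralElem_of_gen A' w' hw s' hs' hgen hf

end K538.ModelAlg
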