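import Groth.Agent.Curves.K538.NormP1
import Groth.Agent.Curves.K321.NormPid
import Groth.Agent.Curves.K329.CurveExt
import Groth.Agent.Curves.K322.CurveIso
import Groth.Agent.S9683

/-!
# The normalization of the projective line over a field in a function field
-/

set_option autoImplicit false
set_option linter.unusedSectionVars false

universe u

open CategoryTheory CategoryTheory.Limits AlgebraicGeometry

namespace K538.ModelC

open K538.NormP1 Groth.Agent.EtpbcA.P1Charts
open Groth.Agent.Ega2.NormChart (toK normToK)

/-- The function field from a generic preimmersion. -/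
theorem exists_iso_generic {X : Scheme.{u}} [IsIntegral X] {L : Type u} [Field L] (g : Spec (CommRingCat.of L) ⟶ X)
    [IsPreimmersion g] (hg : g (IsLocalRing.closedPoint L) = genericPoint X) :
    ∃ e : Spec X.functionField ≅ Spec (CommRingCat.of L), e.hom ≫ g = X.fromSpecStalk (genericPoint X) := by
  have hbij := K329.CurveExt.bijective_stalkClosedPointTo g hg
  let φ := Scheme.stalkClosedPointTo g
  have hφ : IsIso φ := (ConcreteCategory.isIso_iff_bijective φ).2 hbij
  have hgφ : Spec.map φ ≫ X.fromSpecStalk _ = g := Scheme.Spec_stalkClosedPointTo_fromSpecStalk _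
  let ψ : X.presheaf.stalk (genericPoint X) ⟶ CommRingCat.of L :=
    X.presheaf.stalkSpecializes (specializes_of_eq hg) ≫ φ
  have hψ : IsIso ψ := by
    have : IsIso (X.presheaf.stalkSpecializes (specializes_of_eq hg)) :=
      (X.presheaf.stalkCongr (.of_eq hg.symm)).isIso_hom
    infer_instance
  have hgψ : Spec.map ψ ≫ X.fromSpecStalk (genericPoint X) = g := by
    rw [Spec.map_comp, Category.assoc, Scheme.SpecMap_stalkSpecializes_fromSpecStalk]
    exact hgφ
  refine ⟨(asIso (Spec.map ψ)).symm, ?_⟩
  change inv (Spec.map ψ) ≫ _ = _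
  rw [IsIso.inv_comp_eq, hgψ]

variable {k K : Type u} [Field k] [Field K] [Algebra k K] {t : K} (ht : Transcendental k t)

include ht

theorem t_ne : t ≠ 0 := by
  rintro rfl
  exact ht isAlgebraic_zero

theorem tt_transcendental (i : Fin (1 + 1)) : Transcendental k (tt t i) := by
  fin_cases i
  · exact ht
  · intro h
    apply ht
    change IsAlgebraic k t⁻¹ at h
    rw [← inv_inv t]
    exact h.inv

omit ht in
theorem range_evl (i : Fin (1 + 1)) : (evl (CommRingCat.of k) (algebraMap k K) t i).range =
    (Algebra.adjoin k {tt t i}).toSubring := by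
  rw [Algebra.adjoin_singleton_eq_range_aeval]
  rfl

variable [Algebra.EssFiniteType k K] (htr : Algebra.trdeg k K = 1)

/-- The curve. -/
noncomputable abbrev C (k : Type u) {K : Type u} [Field k] [Field K] [Algebra k K] (t : K) : Scheme.{u} :=
  N (CommRingCat.of k) (algebraMap k K) t

include htr

theorem chart' (i : Fin (1 + 1)) :
    let := (nK (CommRingCat.of k) (algebraMap k K) (t_ne ht) i).toAlgebra
    ((f (CommRingCat.of k) (algebraMap k K) t).fromNormalization.app (U (CommRingCat.of k) i)).hom.Finite ∧
    IsDedekindDomain Γ(C k t, V (CommRingCat.of k) (algebraMap k K) t i) ∧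
    ¬ IsField Γ(C k t, V (CommRingCat.of k) (algebraMap k K) t i) ∧
    IsFractionRing Γ(C k t, V (CommRingCat.of k) (algebraMap k K) t i) K := Groth.Agent.Ega2.NormChart.chart (k := k) (f (CommRingCat.of k) (algebraMap k K) t)
  (U (CommRingCat.of k) i) (preimage_U (CommRingCat.of k) (algebraMap k K) (t_ne ht) i)
  (isAffineOpen_U (CommRingCat.of k) i) (tt t i) (tt_transcendental ht i) htr
  ((range_toK (CommRingCat.of k) (algebraMap k K) (t_ne ht) i).trans (range_evl i))

theorem isFinite_C : IsFinite (f (CommRingCat.of k) (algebraMap k K) t).fromNormalization :=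
  Groth.Agent.Ega2.NormCurve.isFinite_of_cover _ (U (CommRingCat.of k)) (isAffineOpen_U (CommRingCat.of k))
    (iSup_U (CommRingCat.of k)) fun i => (chart' ht htr i).1

/-- The structure morphism. -/
noncomputable def pC (k : Type u) {K : Type u} [Field k] [Field K] [Algebra k K] (t : K) :
    C k t ⟶ Spec (CommRingCat.of k) :=
  (f (CommRingCat.of k) (algebraMap k K) t).fromNormalization ≫ toB (CommRingCat.of k)

/-- The generic point. -/
noncomputable def genC (k : Type u) {K : Type u} [Field k] [Field K] [Algebra k K] (t : K) :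
    Spec (CommRingCat.of K) ⟶ C k t :=
  (f (CommRingCat.of k) (algebraMap k K) t).toNormalization

omit [Algebra.EssFiniteType k K] ht htr in
theorem genC_pC : genC k t ≫ pC k t = Spec.map (CommRingCat.ofHom (algebraMap k K)) := by
  rw [genC, pC, ← Category.assoc, Scheme.Hom.toNormalization_fromNormalization, f_toB]

theorem isProper_pC : IsProper (pC k t) := by
  have := isFinite_C ht htr
  unfold pC
  infer_instance

theorem frac_C (i : Fin (1 + 1)) (x : K) :
    ∃ a ∈ (nK (CommRingCat.of k) (algebraMap k K) (t_ne ht) i).range,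
      ∃ b ∈ (nK (CommRingCat.of k) (algebraMap k K) (t_ne ht) i).range, b ≠ 0 ∧ x = a / b := by
  let : Algebra Γ(C k t, V (CommRingCat.of k) (algebraMap k K) t i) K :=
    (nK (CommRingCat.of k) (algebraMap k K) (t_ne ht) i).toAlgebra
  have : IsDedekindDomain Γ(C k t, V (CommRingCat.of k) (algebraMap k K) t i) := (chart' ht htr i).2.1
  have : IsFractionRing Γ(C k t, V (CommRingCat.of k) (algebraMap k K) t i) K := (chart' ht htr i).2.2.2
  obtain ⟨a, b, hb, h⟩ := IsFractionRing.div_surjective (A := Γ(C k t, V (CommRingCat.of k) (algebraMap k K) t i)) x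
  refine ⟨_, ⟨a, rfl⟩, _, ⟨b, rfl⟩, ?_, h.symm⟩
  intro h0
  have h1 : b = 0 := nK_injective (CommRingCat.of k) (algebraMap k K) (t_ne ht) i (h0.trans (map_zero _).symm)
  rw [h1] at hb
  exact zero_notMem_nonZeroDivisors hb

theorem isPreimmersion_genC : IsPreimmersion (genC k t) :=
  isPreimmersion_toNormalization (CommRingCat.of k) (algebraMap k K) (t_ne ht) (frac_C ht htr 0)

omit [Algebra.EssFiniteType k K] ht htr in
theorem genC_closedPoint : genC k t (IsLocalRing.closedPoint K) = genericPoint (C k t) :=
  toNormalization_closedPoint (CommRingCat.of k) (algebraMap k K)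

theorem valuationRing_C (x : C k t) : ValuationRing ((C k t).presheaf.stalk x) := by
  have := isProper_pC ht htr
  have hN : IsLocallyNoetherian (C k t) := LocallyOfFiniteType.isLocallyNoetherian (pC k t)
  have hnorm : Pi1.IsNormalScheme (C k t) :=
    isNormalScheme (CommRingCat.of k) (algebraMap k K) (t_ne ht) (frac_C ht htr)
  have hdim : topologicalKrullDim (C k t) ≤ 1 :=
    (Groth.Agent.S9683.result (f (CommRingCat.of k) (algebraMap k K) t).fromNormalization).1.trans (dim_PP_le k)
  by_cases hx : x = genericPoint (C k t)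
  · subst hx
    exact inferInstanceAs (ValuationRing (C k t).functionField)
  · have := K321.NormPid.isDiscreteValuationRing hnorm hdim hx
    infer_instance

/-- Any normal proper curve with the same function field is isomorphic to `C`. -/
theorem exists_iso (C₀ : Scheme.{u}) (g₀ : C₀ ⟶ Spec (CommRingCat.of k)) [IsIntegral C₀] [IsProper g₀]
    (hv : ∀ x : C₀, ValuationRing (C₀.presheaf.stalk x)) (e : Spec C₀.functionField ≅ Spec (CommRingCat.of K))
    (he : e.hom ≫ Spec.map (CommRingCat.ofHom (algebraMap k K)) = C₀.fromSpecStalk (genericPoint C₀) ≫ g₀) :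
    ∃ i : C₀ ≅ C k t, i.hom ≫ pC k t = g₀ := by
  have := isProper_pC ht htr
  have := isPreimmersion_genC ht htr
  obtain ⟨e', he'⟩ := exists_iso_generic (genC k t) genC_closedPoint
  obtain ⟨i, hi, -⟩ := K322.CurveIso.exists_iso_of_functionField g₀ (pC k t) hv (valuationRing_C ht htr)
    (e ≪≫ e'.symm) (by
      rw [Iso.trans_hom, Category.assoc, ← he', Iso.symm_hom, Category.assoc, Iso.inv_hom_id_assoc, genC_pC, he])
  exact ⟨i, hi⟩

end K538.ModelC
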