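import Groth.Agent.EtpbcA.P1Charts
import Groth.Agent.Ega2.NormCurve
import Groth.Agent.Ega2.P1

/-!
# The normalization of the projective line over a ring in a field
-/

set_option autoImplicit false
set_option linter.style.haveILetI false
set_option linter.unusedSectionVars false

universe u

open CategoryTheory CategoryTheory.Limits AlgebraicGeometry

namespace K538.NormP1

open Groth.Agent.EtpbcA.P1Charts Groth.Agent.CycB.P1Chart
  Groth.Agent.Ega2.NormCurve
open Groth.Agent.Ega2.NormChart hiding chart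
open Groth.Agent.Dix.ProjProper (mapBase mapBase_toZ mapBase_toBase isPullback_mapBase)

variable (A : CommRingCat.{u}) {L : Type u} [Field L] (φ : A →+* L) (t : L)

/-- The coordinate of the chart `i`. -/
noncomputable def tt (i : Fin (1 + 1)) : L := if i = 0 then t else t⁻¹

/-- The evaluation on the chart `i`. -/
noncomputable def evl (i : Fin (1 + 1)) : Polynomial A →+* L := Polynomial.eval₂RingHom φ (tt t i)

/-- The point `[1 : t]`. -/
noncomputable def f : Spec (CommRingCat.of L) ⟶ PP A :=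
  pt (B := CommRingCat.of L) 0 (Spec.map (CommRingCat.ofHom φ)) t

theorem f_toB : f A φ t ≫ toB A = Spec.map (CommRingCat.ofHom φ) := pt_toBase _ _ _

variable {t} in
theorem f_eq_pt (ht : t ≠ 0) (i : Fin (1 + 1)) :
    f A φ t = pt (B := CommRingCat.of L) i (Spec.map (CommRingCat.ofHom φ)) (tt t i) := by
  fin_cases i
  · rfl
  · exact pt_inv (B := CommRingCat.of L) 0 (Spec.map (CommRingCat.ofHom φ)) (mul_inv_cancel₀ ht)

variable {t} in
theorem f_eq_chart (ht : t ≠ 0) (i : Fin (1 + 1)) :
    f A φ t = Spec.map (CommRingCat.ofHom (evl A φ t i)) ≫ chart i A := by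
  rw [f_eq_pt A φ ht i, chart, map_pt, ← Spec.map_comp, ← CommRingCat.ofHom_comp]
  have h1 : (evl A φ t i).comp (Polynomial.C : A →+* Polynomial A) = φ := by
    ext a
    simp [evl]
  have h2 : (CommRingCat.ofHom (evl A φ t i)).hom (Polynomial.X : Polynomial A) = tt t i := by
    simp [evl]
  rw [h1, h2]

/-- The standard affine opens. -/
noncomputable def U (i : Fin (1 + 1)) : (PP A).Opens := (chart i A).opensRange

theorem isAffineOpen_U (i : Fin (1 + 1)) : IsAffineOpen (U A i) := isAffineOpen_opensRange _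

theorem iSup_U : ⨆ i, U A i = ⊤ := by
  rw [eq_top_iff]
  intro z _
  obtain ⟨i, hi⟩ := chart_cover A z
  simp only [TopologicalSpace.Opens.mem_iSup]
  exact ⟨i, hi⟩

variable {t} in
theorem preimage_U (ht : t ≠ 0) (i : Fin (1 + 1)) : (f A φ t) ⁻¹ᵁ (U A i) = ⊤ := by
  rw [f_eq_chart A φ ht i]
  ext x
  simp [U]

variable {t} in
theorem range_toK (ht : t ≠ 0) (i : Fin (1 + 1)) :
    (toK (f A φ t) (U A i) (preimage_U A φ ht i)).range = (evl A φ t i).range := by
  have h1 : ∀ (g g' : Spec (CommRingCat.of L) ⟶ PP A) (hg : g = g') (h : ⊤ ≤ g ⁻¹ᵁ U A i)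
      (h' : ⊤ ≤ g' ⁻¹ᵁ U A i), g.appLE (U A i) ⊤ h = g'.appLE (U A i) ⊤ h' := by
    intro g g' hg h h'
    subst hg
    rfl
  unfold toK
  rw [h1 _ _ (f_eq_chart A φ ht i) _ (by rw [← f_eq_chart A φ ht i, preimage_U A φ ht i])]
  exact Groth.Agent.Ega2.P1.range_appLE (chart i A) (CommRingCat.ofHom (evl A φ t i)) (U A i) rfl _

instance isProper_toB : IsProper (toB A) := Groth.Agent.Dix.ProjProper.isProper_toBase 1 (Spec A)

instance quasiCompact_f : QuasiCompact (f A φ t) := by
  have h : QuasiCompact (f A φ t ≫ toB A) := by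
    rw [f_toB]
    infer_instance
  exact .of_comp (f A φ t) (toB A)

instance quasiSeparated_f : QuasiSeparated (f A φ t) := by
  have h : QuasiSeparated (f A φ t ≫ toB A) := by
    rw [f_toB]
    infer_instance
  exact .of_comp (f A φ t) (toB A)

/-- The normalization. -/
noncomputable abbrev N : Scheme.{u} := (f A φ t).normalization

/-- The charts. -/
noncomputable abbrev V (i : Fin (1 + 1)) : (N A φ t).Opens := (f A φ t).fromNormalization ⁻¹ᵁ (U A i)

theorem isAffineOpen_V (i : Fin (1 + 1)) : IsAffineOpen (V A φ t i) :=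
  (isAffineOpen_U A i).preimage _

theorem iSup_V : ⨆ i, V A φ t i = ⊤ := by
  rw [← Scheme.Hom.preimage_iSup, iSup_U]
  rfl

section

variable {t} (ht : t ≠ 0) (i : Fin (1 + 1))

/-- The sections over the chart `i` as elements of `L`. -/
noncomputable def nK : Γ(N A φ t, V A φ t i) →+* L := normToK (f A φ t) (U A i) (preimage_U A φ ht i)

theorem nK_injective : Function.Injective (nK A φ ht i) :=
  normToK_injective _ _ _ (isAffineOpen_U A i)

theorem mem_range_nK (x : L) : x ∈ (nK A φ ht i).range ↔ (evl A φ t i).IsIntegralElem x := by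
  unfold nK
  rw [mem_range_normToK _ _ _ (isAffineOpen_U A i)]
  exact ⟨isIntegralElem_of_range_le _ _ (range_toK A φ ht i).le,
    isIntegralElem_of_range_le _ _ (range_toK A φ ht i).ge⟩

theorem nK_app (b : Γ(PP A, U A i)) : nK A φ ht i (((f A φ t).fromNormalization.app (U A i)).hom b) =
    toK (f A φ t) (U A i) (preimage_U A φ ht i) b :=
  congrArg (fun ψ => ψ b) (normToK_comp (f A φ t) (U A i) (preimage_U A φ ht i))

/-- Finiteness of the normalization. -/
theorem isFinite (h : ∀ i, ∃ s : Finset L, (∀ x ∈ s, x ∈ (nK A φ ht i).range) ∧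
    ∀ x ∈ (nK A φ ht i).range, ∃ p : L → Polynomial A, x = ∑ y ∈ s, evl A φ t i (p y) * y) :
    IsFinite (f A φ t).fromNormalization := by
  classical
  refine isFinite_of_cover _ (U A) (isAffineOpen_U A) (iSup_U A) fun i => ?_
  obtain ⟨s, hs, h⟩ := h i
  have hmem : ∀ p : Polynomial A, evl A φ t i p ∈ (toK (f A φ t) (U A i) (preimage_U A φ ht i)).range := by
    intro p
    rw [range_toK A φ ht]
    exact ⟨p, rfl⟩
  let := ((f A φ t).fromNormalization.app (U A i)).hom.toAlgebra
  change Module.Finite Γ(PP A, U A i) Γ(N A φ t, V A φ t i)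
  choose b hb using hs
  refine ⟨⟨s.attach.image fun x => b x.1 x.2, ?_⟩⟩
  rw [eq_top_iff]
  rintro z -
  obtain ⟨p, hp⟩ := h _ ⟨z, rfl⟩
  choose a ha using fun y => hmem (p y)
  have hz : z = ∑ y ∈ s.attach, a y.1 • b y.1 y.2 := by
    apply nK_injective A φ ht i
    rw [hp, map_sum, ← Finset.sum_attach s]
    refine Finset.sum_congr rfl fun y _ => ?_
    rw [Algebra.smul_def, map_mul, hb]
    congr 1
    exact (nK_app A φ ht i _).symm ▸ (ha y.1).symm
  rw [hz]
  refine Submodule.sum_mem _ fun y _ => Submodule.smul_mem _ _ (Submodule.subset_span ?_)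
  rw [Finset.mem_coe, Finset.mem_image]
  exact ⟨y, Finset.mem_attach _ _, rfl⟩

end

section general

theorem specMap_appLE_fromSpec {X : Scheme.{u}} {B : CommRingCat.{u}} (g : Spec B ⟶ X) {U : X.Opens}
    (hU : IsAffineOpen U) (h : ⊤ ≤ g ⁻¹ᵁ U) :
    Spec.map (g.appLE U ⊤ h ≫ (Scheme.ΓSpecIso B).hom) ≫ hU.fromSpec = g := by
  rw [Spec.map_comp, Category.assoc, IsAffineOpen.SpecMap_appLE_fromSpec g hU (isAffineOpen_top _),
    IsAffineOpen.fromSpec_top, Scheme.isoSpec_Spec_inv, ← Category.assoc, ← Spec.map_comp,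
    Iso.inv_hom_id, Spec.map_id, Category.id_comp]

theorem fromSpec_appLE {X : Scheme.{u}} {B : CommRingCat.{u}} {U : X.Opens} (hU : IsAffineOpen U)
    (φ : Γ(X, U) ⟶ B) (h : ⊤ ≤ (Spec.map φ ≫ hU.fromSpec) ⁻¹ᵁ U) :
    (Spec.map φ ≫ hU.fromSpec).appLE U ⊤ h ≫ (Scheme.ΓSpecIso B).hom = φ := by
  apply Spec.map_injective
  rw [← cancel_mono hU.fromSpec]
  exact specMap_appLE_fromSpec _ hU h

end general

section chartmap

variable {t} (ht : t ≠ 0) (i : Fin (1 + 1))

theorem toNormalization_eq : Spec.map (CommRingCat.ofHom (nK A φ ht i)) ≫ (isAffineOpen_V A φ t i).fromSpec =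
    (f A φ t).toNormalization :=
  specMap_appLE_fromSpec (f A φ t).toNormalization (isAffineOpen_V A φ t i) _

/-- The coordinate of the chart on the normalization. -/
theorem exists_coord : ∃ α : Polynomial A →+* Γ(N A φ t, V A φ t i),
    (isAffineOpen_V A φ t i).fromSpec ≫ (f A φ t).fromNormalization =
      Spec.map (CommRingCat.ofHom α) ≫ chart i A ∧ (nK A φ ht i).comp α = evl A φ t i := by
  have hr : Set.range ((isAffineOpen_V A φ t i).fromSpec ≫ (f A φ t).fromNormalization) ⊆
      Set.range (chart i A) := by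
    rintro _ ⟨x, rfl⟩
    have h1 : (isAffineOpen_V A φ t i).fromSpec x ∈ V A φ t i := by
      have : (isAffineOpen_V A φ t i).fromSpec x ∈ Set.range (isAffineOpen_V A φ t i).fromSpec := ⟨x, rfl⟩
      rw [IsAffineOpen.range_fromSpec] at this
      exact this
    exact h1
  let l := IsOpenImmersion.lift (chart i A) _ hr
  have hl : l ≫ chart i A = (isAffineOpen_V A φ t i).fromSpec ≫ (f A φ t).fromNormalization :=
    IsOpenImmersion.lift_fac _ _ _
  refine ⟨(Spec.preimage l).hom, ?_, ?_⟩
  · rw [← hl]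
    congr 1
    exact (Spec.map_preimage l).symm
  · have h1 : Spec.map (CommRingCat.ofHom (nK A φ ht i)) ≫ l = Spec.map (CommRingCat.ofHom (evl A φ t i)) := by
      rw [← cancel_mono (chart i A), Category.assoc, hl, ← Category.assoc, toNormalization_eq,
        Scheme.Hom.toNormalization_fromNormalization]
      exact f_eq_chart A φ ht i
    have h2 : l = Spec.map (Spec.preimage l) := (Spec.map_preimage l).symm
    rw [h2, ← Spec.map_comp] at h1
    have h3 := Spec.map_injective h1
    exact congrArg CommRingCat.Hom.hom h3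

/-- Points of the normalization with values in a ring. -/
theorem fromSpec_pt {α : Polynomial A →+* Γ(N A φ t, V A φ t i)}
    (hα : (isAffineOpen_V A φ t i).fromSpec ≫ (f A φ t).fromNormalization =
      Spec.map (CommRingCat.ofHom α) ≫ chart i A) {B : CommRingCat.{u}} (ψ : Γ(N A φ t, V A φ t i) ⟶ B) :
    (Spec.map ψ ≫ (isAffineOpen_V A φ t i).fromSpec) ≫ (f A φ t).fromNormalization =
      pt i (Spec.map (CommRingCat.ofHom ((ψ.hom.comp α).comp Polynomial.C))) (ψ.hom (α Polynomial.X)) := by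
  rw [Category.assoc, hα, ← Category.assoc, ← Spec.map_comp, chart, map_pt, ← Spec.map_comp]
  rfl

end chartmap

section generic

variable {t} (ht : t ≠ 0)

theorem isFractionRing_nK (i : Fin (1 + 1)) (h : ∀ x : L, ∃ a ∈ (nK A φ ht i).range, ∃ b ∈ (nK A φ ht i).range,
    b ≠ 0 ∧ x = a / b) :
    letI := (nK A φ ht i).toAlgebra
    IsFractionRing Γ(N A φ t, V A φ t i) L := by
  letI : Algebra Γ(N A φ t, V A φ t i) L := (nK A φ ht i).toAlgebra
  haveI : FaithfulSMul Γ(N A φ t, V A φ t i) L :=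
    (faithfulSMul_iff_algebraMap_injective _ _).mpr (nK_injective A φ ht i)
  have : IsDomain Γ(N A φ t, V A φ t i) := (nK_injective A φ ht i).isDomain
  refine IsFractionRing.of_field _ _ fun z => ?_
  obtain ⟨_, ⟨x, rfl⟩, _, ⟨y, rfl⟩, -, h⟩ := h z
  exact ⟨x, y, h⟩

theorem isPreimmersion_toNormalization (h : ∀ x : L, ∃ a ∈ (nK A φ ht 0).range, ∃ b ∈ (nK A φ ht 0).range,
    b ≠ 0 ∧ x = a / b) : IsPreimmersion (f A φ t).toNormalization := by
  rw [← toNormalization_eq A φ ht 0]
  letI : Algebra Γ(N A φ t, V A φ t 0) L := (nK A φ ht 0).toAlgebra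
  haveI := isFractionRing_nK A φ ht 0 h
  have h1 : IsPreimmersion (Spec.map (CommRingCat.ofHom (nK A φ ht 0))) :=
    IsPreimmersion.of_isLocalization (nonZeroDivisors Γ(N A φ t, V A φ t 0))
  infer_instance

theorem toNormalization_closedPoint :
    (f A φ t).toNormalization (IsLocalRing.closedPoint L) = genericPoint (N A φ t) := by
  have h1 : IsDominant (f A φ t).toNormalization := inferInstance
  have h2 := h1.denseRange
  refine ((genericPoint_spec (N A φ t)).eq ?_).symm
  rw [isGenericPoint_def]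
  have h3 : Set.range (f A φ t).toNormalization = {(f A φ t).toNormalization (IsLocalRing.closedPoint L)} := by
    ext x
    constructor
    · rintro ⟨y, rfl⟩
      have : y = IsLocalRing.closedPoint L := Subsingleton.elim _ _
      rw [this]
      rfl
    · rintro rfl
      exact ⟨_, rfl⟩
  have h4 := h2.closure_range
  rw [h3] at h4
  exact h4

theorem isIntegrallyClosed_V (i : Fin (1 + 1)) (h : ∀ x : L, ∃ a ∈ (nK A φ ht i).range,
    ∃ b ∈ (nK A φ ht i).range, b ≠ 0 ∧ x = a / b) : IsIntegrallyClosed Γ(N A φ t, V A φ t i) := by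
  letI : Algebra Γ(N A φ t, V A φ t i) L := (nK A φ ht i).toAlgebra
  have := isFractionRing_nK A φ ht i h
  rw [isIntegrallyClosed_iff L]
  intro x hx
  letI : Algebra Γ(PP A, U A i) Γ(N A φ t, V A φ t i) := ((f A φ t).fromNormalization.app (U A i)).hom.toAlgebra
  letI : Algebra Γ(PP A, U A i) L := (toK (f A φ t) (U A i) (preimage_U A φ ht i)).toAlgebra
  haveI : IsScalarTower Γ(PP A, U A i) Γ(N A φ t, V A φ t i) L :=
    IsScalarTower.of_algebraMap_eq' (normToK_comp (f A φ t) (U A i) (preimage_U A φ ht i)).symm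
  haveI : Algebra.IsIntegral Γ(PP A, U A i) Γ(N A φ t, V A φ t i) := by
    refine ⟨fun y => ?_⟩
    have h1 := (mem_range_normToK (f A φ t) (U A i) (preimage_U A φ ht i) (isAffineOpen_U A i)
      (nK A φ ht i y)).mp ⟨y, rfl⟩
    exact (isIntegral_algebraMap_iff (A := Γ(N A φ t, V A φ t i)) (B := L)
      (nK_injective A φ ht i)).mp h1
  have h2 : IsIntegral Γ(PP A, U A i) x := isIntegral_trans x hx
  exact (mem_range_normToK (f A φ t) (U A i) (preimage_U A φ ht i) (isAffineOpen_U A i) x).mpr h2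

theorem isNormalScheme (h : ∀ i, ∀ x : L, ∃ a ∈ (nK A φ ht i).range,
    ∃ b ∈ (nK A φ ht i).range, b ≠ 0 ∧ x = a / b) : Pi1.IsNormalScheme (N A φ t) := by
  intro x
  have h0 : x ∈ ⨆ i, V A φ t i := by
    rw [iSup_V]
    trivial
  simp only [TopologicalSpace.Opens.mem_iSup] at h0
  obtain ⟨i, hi⟩ := h0
  have hW := isAffineOpen_V A φ t i
  letI : Algebra Γ(N A φ t, V A φ t i) ((N A φ t).presheaf.stalk x) :=
    TopCat.Presheaf.algebra_section_stalk (N A φ t).presheaf ⟨x, hi⟩
  haveI hloc : IsLocalization.AtPrime ((N A φ t).presheaf.stalk x) (hW.primeIdealOf ⟨x, hi⟩).asIdeal :=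
    hW.isLocalization_stalk ⟨x, hi⟩
  have : IsDomain Γ(N A φ t, V A φ t i) := (nK_injective A φ ht i).isDomain
  have := isIntegrallyClosed_V A φ ht i (h i)
  have hle : (hW.primeIdealOf ⟨x, hi⟩).asIdeal.primeCompl ≤ nonZeroDivisors Γ(N A φ t, V A φ t i) :=
    Ideal.primeCompl_le_nonZeroDivisors _
  exact ⟨IsLocalization.isDomain_of_le_nonZeroDivisors _ hle,
    isIntegrallyClosed_of_isLocalization ((N A φ t).presheaf.stalk x) _ hle⟩

end generic

end K538.NormP1
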