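import Groth.Agent.Curves.K538.ModelAlg
import Groth.Agent.Curves.K538.NormP1

/-!
# The model over `k⟦X⟧` with given chart rings
-/

set_option autoImplicit false

universe u

open CategoryTheory CategoryTheory.Limits AlgebraicGeometry

namespace K538.ModelDef

open K538.Charts K538.NormP1 K538.ModelAlg

variable {k K : Type u} [Field k] [Field K] [Algebra k K] {w : PowerSeries K}
  {A0 A1 : Subalgebra (PowerSeries k) (PowerSeries K)}

local notation "Ω" => FractionRing (PowerSeries K)

/-- The coordinates. -/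
noncomputable def ww (w : PowerSeries K) (i : Fin (1 + 1)) : PowerSeries K := if i = 0 then w else w⁻¹

/-- The chart rings. -/
def Aof (A0 A1 : Subalgebra (PowerSeries k) (PowerSeries K)) (i : Fin (1 + 1)) :
    Subalgebra (PowerSeries k) (PowerSeries K) := if i = 0 then A0 else A1

theorem Aof_zero : Aof A0 A1 0 = A0 := rfl

theorem Aof_one : Aof A0 A1 1 = A1 := rfl

variable (H : Charts k K w A0 A1)

include H

theorem w_ne : w ≠ 0 := by
  rintro rfl
  exact H.ne (map_zero _)

theorem w_mul_inv : w * w⁻¹ = 1 := PowerSeries.mul_inv_cancel w H.ne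

theorem ww_mem (i : Fin (1 + 1)) : ww w i ∈ Aof A0 A1 i := by
  fin_cases i
  · exact H.w_mem
  · exact H.winv_mem

theorem Aof_gen (i : Fin (1 + 1)) : ∃ s : Finset (PowerSeries K), (∀ x ∈ s, x ∈ Aof A0 A1 i) ∧
    ∀ f ∈ Aof A0 A1 i, ∃ p : PowerSeries K → Polynomial (PowerSeries k),
      f = ∑ x ∈ s, Polynomial.aeval (ww w i) (p x) * x := by
  fin_cases i
  · exact H.gen0
  · exact H.gen1

theorem Aof_int (i : Fin (1 + 1)) : ∀ a ∈ Aof A0 A1 i, a ≠ 0 → ∀ g, a * g ∈ Aof A0 A1 i →
    IsIntegral (Aof A0 A1 i) g → g ∈ Aof A0 A1 i := by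
  fin_cases i
  · exact H.int0
  · exact H.int1

theorem Aof_X (i : Fin (1 + 1)) : ∀ f, PowerSeries.X * f ∈ Aof A0 A1 i → f ∈ Aof A0 A1 i := by
  fin_cases i
  · exact H.X0
  · exact H.X1

variable (L : Type u) [Field L] [Algebra A0 L] [IsFractionRing A0 L]

omit H in
/-- The structure map. -/
noncomputable def phi (A0 : Subalgebra (PowerSeries k) (PowerSeries K)) (L : Type u) [Field L] [Algebra A0 L] :
    (CommRingCat.of (PowerSeries k)) →+* L :=
  (algebraMap A0 L).comp (algebraMap (PowerSeries k) A0)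

/-- The coordinate in `L`. -/
noncomputable def tL : L := algebraMap A0 L ⟨w, H.w_mem⟩

theorem tL_ne : tL H L ≠ 0 := by
  intro h
  have h1 := (map_eq_zero_iff _ (IsFractionRing.injective A0 L)).mp h
  exact w_ne H (congrArg Subtype.val h1)

omit H in
theorem incl_injective (A0 : Subalgebra (PowerSeries k) (PowerSeries K)) :
    Function.Injective ((algebraMap (PowerSeries K) Ω).comp (A0.val : A0 →+* PowerSeries K)) :=
  (IsFractionRing.injective (PowerSeries K) Ω).comp Subtype.val_injective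

omit H in
variable (A0) in
/-- The embedding in the fraction field of `K⟦X⟧`. -/
noncomputable def theta : L →+* Ω := IsFractionRing.lift (incl_injective A0)

omit H in
theorem theta_alg (a : A0) : theta A0 L (algebraMap A0 L a) = algebraMap (PowerSeries K) Ω a :=
  IsFractionRing.lift_algebraMap (incl_injective A0) a

omit H in
theorem theta_phi (c : PowerSeries k) : theta A0 L (phi A0 L c) =
    algebraMap (PowerSeries K) Ω (algebraMap (PowerSeries k) (PowerSeries K) c) :=
  theta_alg L (algebraMap (PowerSeries k) A0 c)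

theorem theta_tt (i : Fin (1 + 1)) : theta A0 L (tt (tL H L) i) = algebraMap (PowerSeries K) Ω (ww w i) := by
  fin_cases i
  · exact theta_alg L _
  · change theta A0 L (tL H L)⁻¹ = algebraMap (PowerSeries K) Ω w⁻¹
    rw [map_inv₀, tL, theta_alg]
    refine inv_eq_of_mul_eq_one_right ?_
    rw [← map_mul, w_mul_inv H, map_one]

theorem Aof_frac (i : Fin (1 + 1)) (y : L) : ∃ a ∈ Aof A0 A1 i, a ≠ 0 ∧ ∃ b ∈ Aof A0 A1 i,
    algebraMap (PowerSeries K) Ω a * theta A0 L y = algebraMap (PowerSeries K) Ω b := by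
  obtain ⟨b, a, ha, rfl⟩ := IsFractionRing.div_surjective (A := A0) y
  have ha0 : (a : PowerSeries K) ≠ 0 := by
    intro h
    have : a = 0 := Subtype.ext h
    rw [this] at ha
    exact zero_notMem_nonZeroDivisors ha
  have h1 : algebraMap (PowerSeries K) Ω a * theta A0 L (algebraMap A0 L b / algebraMap A0 L a) =
      algebraMap (PowerSeries K) Ω b := by
    rw [map_div₀, theta_alg, theta_alg, mul_div_cancel₀]
    intro h
    exact ha0 ((map_eq_zero_iff _ (IsFractionRing.injective (PowerSeries K) Ω)).mp h)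
  fin_cases i
  · exact ⟨a, a.2, ha0, b, b.2, h1⟩
  · obtain ⟨m, hm⟩ := H.to1 a a.2
    obtain ⟨n, hn⟩ := H.to1 b b.2
    refine ⟨w⁻¹ ^ (m + n) * a, ?_, ?_, w⁻¹ ^ (m + n) * b, ?_, ?_⟩
    · have h2 : w⁻¹ ^ (m + n) * (a : PowerSeries K) = w⁻¹ ^ n * (w⁻¹ ^ m * a) := by ring
      rw [h2]
      exact A1.mul_mem (A1.pow_mem H.winv_mem _) hm
    · refine mul_ne_zero (pow_ne_zero _ ?_) ha0
      intro h
      have := w_mul_inv H
      rw [h, mul_zero] at this
      exact zero_ne_one this
    · rw [pow_add, mul_assoc]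
      exact A1.mul_mem (A1.pow_mem H.winv_mem _) hn
    · rw [map_mul, mul_assoc, h1, map_mul]

theorem evl_integral_iff (i : Fin (1 + 1)) (y : L) :
    (evl (CommRingCat.of (PowerSeries k)) (phi A0 L) (tL H L) i).IsIntegralElem y ↔
      ∃ f ∈ Aof A0 A1 i, algebraMap (PowerSeries K) Ω f = theta A0 L y :=
  integral_iff (Aof A0 A1 i) (ww w i) (ww_mem H i) (Aof_gen H i) (Aof_int H i) (theta A0 L) (phi A0 L)
    (theta_phi L) (tt (tL H L) i) (theta_tt H L i) (Aof_frac H L i) y

theorem theta_evl (i : Fin (1 + 1)) (p : Polynomial (PowerSeries k)) :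
    theta A0 L (evl (CommRingCat.of (PowerSeries k)) (phi A0 L) (tL H L) i p) =
      algebraMap (PowerSeries K) Ω (Polynomial.aeval (ww w i) p) := by
  have hcomp : (theta A0 L).comp (evl (CommRingCat.of (PowerSeries k)) (phi A0 L) (tL H L) i) =
      (algebraMap (PowerSeries K) Ω).comp ((Polynomial.aeval (ww w i) :
        Polynomial (PowerSeries k) →ₐ[PowerSeries k] PowerSeries K) :
        Polynomial (PowerSeries k) →+* PowerSeries K) := by
    apply Polynomial.ringHom_ext
    · intro c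
      simp only [RingHom.comp_apply, evl, Polynomial.coe_eval₂RingHom, Polynomial.eval₂_C]
      rw [theta_phi]
      congr 1
      exact (Polynomial.aeval_C (ww w i) c).symm
    · simp only [RingHom.comp_apply, evl, Polynomial.coe_eval₂RingHom, Polynomial.eval₂_X]
      rw [theta_tt]
      congr 1
      exact (Polynomial.aeval_X (ww w i)).symm
  exact congrArg (fun ψ => ψ p) hcomp

/-- The normalization of `P^1` in `L`. -/
noncomputable abbrev X : Scheme.{u} := N (CommRingCat.of (PowerSeries k)) (phi A0 L) (tL H L)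

/-- Its charts. -/
noncomputable abbrev W (i : Fin (1 + 1)) : (X H L).Opens := V (CommRingCat.of (PowerSeries k)) (phi A0 L) (tL H L) i

/-- The sections in `L`. -/
noncomputable abbrev nL (i : Fin (1 + 1)) : Γ(X H L, W H L i) →+* L :=
  nK (CommRingCat.of (PowerSeries k)) (phi A0 L) (tL_ne H L) i

theorem mem_range_nL (i : Fin (1 + 1)) (y : L) : y ∈ (nL H L i).range ↔
    ∃ f ∈ Aof A0 A1 i, algebraMap (PowerSeries K) Ω f = theta A0 L y := by
  rw [mem_range_nK, evl_integral_iff]

theorem exists_e (i : Fin (1 + 1)) : ∃ e : Γ(X H L, W H L i) →+* PowerSeries K,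
    (∀ z, algebraMap (PowerSeries K) Ω (e z) = theta A0 L (nL H L i z)) ∧
    (∀ f, f ∈ Aof A0 A1 i ↔ ∃ z, e z = f) := by
  have hinj : Function.Injective (algebraMap (PowerSeries K) Ω) := IsFractionRing.injective _ _
  have h1 : ∀ z, ∃ f ∈ Aof A0 A1 i, algebraMap (PowerSeries K) Ω f = theta A0 L (nL H L i z) := fun z =>
    (mem_range_nL H L i _).mp ⟨z, rfl⟩
  choose e he he' using h1
  refine ⟨{ toFun := e, map_one' := hinj ?_, map_mul' := fun a b => hinj ?_, map_zero' := hinj ?_,
            map_add' := fun a b => hinj ?_ }, he', fun f => ⟨fun hf => ?_, ?_⟩⟩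
  · rw [he', map_one, map_one, map_one]
  · rw [he', map_mul, map_mul, map_mul, he', he']
  · rw [he', map_zero, map_zero, map_zero]
  · rw [he', map_add, map_add, map_add, he', he']
  · -- an element of `L` with image `f`
    have h2 : ∃ y : L, theta A0 L y = algebraMap (PowerSeries K) Ω f := by
      fin_cases i
      · exact ⟨algebraMap A0 L ⟨f, hf⟩, theta_alg L _⟩
      · obtain ⟨n, hn⟩ := H.to0 f hf
        refine ⟨algebraMap A0 L ⟨_, hn⟩ / tL H L ^ n, ?_⟩
        rw [map_div₀, theta_alg, map_pow, tL, theta_alg]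
        have h3 : algebraMap (PowerSeries K) Ω w ≠ 0 := fun h =>
          w_ne H ((map_eq_zero_iff _ hinj).mp h)
        rw [div_eq_iff (pow_ne_zero _ h3), ← map_pow, ← map_mul]
        exact congrArg _ (mul_comm (w ^ n) f)
    obtain ⟨y, hy⟩ := h2
    obtain ⟨z, hz⟩ := (mem_range_nL H L i y).mpr ⟨f, hf, hy.symm⟩
    refine ⟨z, hinj ?_⟩
    change algebraMap (PowerSeries K) Ω (e z) = _
    rw [he', hz, hy]
  · rintro ⟨z, rfl⟩
    exact he z

theorem frac_nL (i : Fin (1 + 1)) (x : L) : ∃ a ∈ (nL H L i).range, ∃ b ∈ (nL H L i).range, b ≠ 0 ∧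
    x = a / b := by
  have hinj : Function.Injective (algebraMap (PowerSeries K) Ω) := IsFractionRing.injective _ _
  obtain ⟨a, ha, ha0, b, hb, hab⟩ := Aof_frac H L i x
  obtain ⟨e, he, he'⟩ := exists_e H L i
  obtain ⟨z, hz⟩ := (he' a).mp ha
  obtain ⟨z', hz'⟩ := (he' b).mp hb
  have hz0 : nL H L i z ≠ 0 := by
    intro h
    have h1 := he z
    rw [h, map_zero, hz] at h1
    exact ha0 ((map_eq_zero_iff _ hinj).mp h1)
  refine ⟨_, ⟨z', rfl⟩, _, ⟨z, rfl⟩, hz0, ?_⟩
  rw [eq_div_iff hz0]
  apply (theta A0 L).injective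
  rw [map_mul, ← he, ← he, hz, hz', ← hab, mul_comm]

theorem isFinite_X : IsFinite (f (CommRingCat.of (PowerSeries k)) (phi A0 L) (tL H L)).fromNormalization := by
  classical
  have hinj : Function.Injective (algebraMap (PowerSeries K) Ω) := IsFractionRing.injective _ _
  refine NormP1.isFinite (CommRingCat.of (PowerSeries k)) (phi A0 L) (tL_ne H L) fun i => ?_
  obtain ⟨s, hs, hgen⟩ := Aof_gen H i
  obtain ⟨e, he, he'⟩ := exists_e H L i
  have h1 : ∀ f : PowerSeries K, ∃ z : Γ(X H L, W H L i), f ∈ Aof A0 A1 i → e z = f := by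
    intro f
    by_cases hf : f ∈ Aof A0 A1 i
    · obtain ⟨z, hz⟩ := (he' f).mp hf
      exact ⟨z, fun _ => hz⟩
    · exact ⟨0, fun h => absurd h hf⟩
  choose z hz using h1
  let y : PowerSeries K → L := fun f => nL H L i (z f)
  have hy : ∀ f ∈ Aof A0 A1 i, theta A0 L (y f) = algebraMap (PowerSeries K) Ω f := by
    intro f hf
    rw [← he, hz f hf]
  have hyinj : Set.InjOn y (s : Set (PowerSeries K)) := by
    intro a ha b hb hab
    apply hinj
    rw [← hy a (hs a ha), ← hy b (hs b hb), hab]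
  refine ⟨s.image y, ?_, ?_⟩
  · intro x hx
    obtain ⟨a, -, rfl⟩ := Finset.mem_image.mp hx
    exact ⟨_, rfl⟩
  · intro x hx
    obtain ⟨f, hf, hfx⟩ := (mem_range_nL H L i x).mp hx
    obtain ⟨p, hp⟩ := hgen f hf
    have h2 : ∀ l : L, ∃ q : Polynomial (PowerSeries k), ∀ a ∈ s, y a = l → q = p a := by
      intro l
      by_cases hl : ∃ a ∈ s, y a = l
      · obtain ⟨a, ha, hal⟩ := hl
        refine ⟨p a, fun b hb hbl => ?_⟩
        rw [hyinj ha hb (hal.trans hbl.symm)]
      · exact ⟨0, fun a ha hal => absurd ⟨a, ha, hal⟩ hl⟩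
    choose q hq using h2
    refine ⟨q, ?_⟩
    rw [Finset.sum_image hyinj]
    apply (theta A0 L).injective
    rw [← hfx, hp, map_sum, map_sum]
    refine Finset.sum_congr rfl fun a ha => ?_
    rw [hq (y a) a ha rfl, map_mul, map_mul, hy a (hs a ha), theta_evl]

end K538.ModelDef
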