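import Groth.Agent.Curves.K538.ModelDef
import Groth.Agent.Models.DVRGeneric
import Groth.Agent.Models.K381.DedFlat
import Groth.Agent.Curves.K321.NormPid
import Groth.Agent.Curves.K329.CurveExt
import Groth.Agent.S9683

/-!
# The model: properness, flatness, and the generic fibre
-/

set_option autoImplicit false
set_option linter.unusedSectionVars false

universe u

open CategoryTheory CategoryTheory.Limits AlgebraicGeometry

namespace K538.ModelGen

open K538.Charts K538.NormP1 K538.ModelAlg K538.ModelDef Groth.Agent.EtpbcA.P1Charts

variable {k K : Type u} [Field k] [Field K] [Algebra k K] {w : PowerSeries K}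
  {A0 A1 : Subalgebra (PowerSeries k) (PowerSeries K)}
  (H : Charts k K w A0 A1) (L : Type u) [Field L] [Algebra A0 L] [IsFractionRing A0 L]

/-- The structure morphism. -/
noncomputable def p : X H L ⟶ Spec (CommRingCat.of (PowerSeries k)) :=
  (f (CommRingCat.of (PowerSeries k)) (phi A0 L) (tL H L)).fromNormalization ≫ toB (CommRingCat.of (PowerSeries k))

/-- The generic point. -/
noncomputable def gen : Spec (CommRingCat.of L) ⟶ X H L :=
  (f (CommRingCat.of (PowerSeries k)) (phi A0 L) (tL H L)).toNormalization

theorem gen_p : gen H L ≫ p H L = Spec.map (CommRingCat.ofHom (phi A0 L)) := by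
  rw [gen, p, ← Category.assoc, Scheme.Hom.toNormalization_fromNormalization, f_toB]

instance isProper_p : IsProper (p H L) := by
  have := isFinite_X H L
  unfold p
  infer_instance

omit [IsFractionRing A0 L] in
theorem phi_injective [IsFractionRing A0 L] : Function.Injective (phi A0 L) := by
  have h1 : Function.Injective (algebraMap (PowerSeries k) A0) := by
    intro a b hab
    have h2 := congrArg (A0.val : A0 →+* PowerSeries K) hab
    have h3 : Function.Injective (algebraMap (PowerSeries k) (PowerSeries K)) :=
      PowerSeries.map_injective _ (algebraMap k K).injective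
    exact h3 h2
  exact (IsFractionRing.injective A0 L).comp h1

instance isDominant_gen : IsDominant (gen H L) := by
  unfold gen
  infer_instance

instance isDominant_p : IsDominant (p H L) := by
  have h : IsDominant (gen H L ≫ p H L) := by
    rw [gen_p]
    refine ⟨?_⟩
    change DenseRange (PrimeSpectrum.comap (phi A0 L))
    rw [PrimeSpectrum.denseRange_comap_iff_ker_le_nilRadical,
      (RingHom.injective_iff_ker_eq_bot _).1 (phi_injective L)]
    exact bot_le
  exact IsDominant.of_comp (gen H L) (p H L)

instance isIntegral_X : IsIntegral (X H L) := inferInstance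

theorem isPrincipalIdealRing_of_isLocalization {R S : Type*} [CommRing R] [CommRing S] [Algebra R S]
    (M : Submonoid R) [IsLocalization M S] [IsPrincipalIdealRing R] : IsPrincipalIdealRing S := by
  refine ⟨fun J => ?_⟩
  obtain ⟨x, hx⟩ := (IsPrincipalIdealRing.principal (J.under R)).principal
  refine ⟨algebraMap R S x, ?_⟩
  have h := IsLocalization.map_under M S J
  have hx' : J.under R = Ideal.span {x} := hx
  rw [hx', Ideal.map_span, Set.image_singleton] at h
  exact h.symm

instance flat_p : Flat (p H L) := by
  have : IsIntegral (Spec (CommRingCat.of (PowerSeries k))) := inferInstance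
  apply K381.DedFlat.flat_of_isDominant
  intro s
  have h2 : IsPrincipalIdealRing (Localization.AtPrime s.asIdeal) :=
    isPrincipalIdealRing_of_isLocalization s.asIdeal.primeCompl
  let e2 := (StructureSheaf.stalkIso (PowerSeries k) s).toRingEquiv
  exact IsPrincipalIdealRing.of_surjective e2.toRingHom e2.surjective

theorem isNormal_X : Pi1.IsNormalScheme (X H L) :=
  isNormalScheme (CommRingCat.of (PowerSeries k)) (phi A0 L) (tL_ne H L) (frac_nL H L)

instance isPreimmersion_gen : IsPreimmersion (gen H L) :=
  isPreimmersion_toNormalization (CommRingCat.of (PowerSeries k)) (phi A0 L) (tL_ne H L) (frac_nL H L 0)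

theorem gen_closedPoint : gen H L (IsLocalRing.closedPoint L) = genericPoint (X H L) :=
  toNormalization_closedPoint (CommRingCat.of (PowerSeries k)) (phi A0 L)

section generic

variable (F : Type u) [Field F] [Algebra (PowerSeries k) F] [IsFractionRing (PowerSeries k) F] [Algebra F L]
  (hFL : ∀ c : PowerSeries k, algebraMap F L (algebraMap _ F c) = algebraMap A0 L (algebraMap _ A0 c))

/-- The generic fibre. -/
noncomputable abbrev XF : Scheme.{u} := pullback (p H L) (Spec.map (CommRingCat.ofHom (algebraMap (PowerSeries k) F)))

instance isOpenImmersion_fst : IsOpenImmersion (pullback.fst (p H L)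
    (Spec.map (CommRingCat.ofHom (algebraMap (PowerSeries k) F)))) := by
  have := Groth.Agent.Models.DVRGeneric.isOpenImmersion_generic (PowerSeries k) F
  infer_instance

include hFL in
theorem genF_w : gen H L ≫ p H L = Spec.map (CommRingCat.ofHom (algebraMap F L)) ≫
    Spec.map (CommRingCat.ofHom (algebraMap (PowerSeries k) F)) := by
  rw [gen_p, ← Spec.map_comp, ← CommRingCat.ofHom_comp]
  congr 2
  exact RingHom.ext fun c => (hFL c).symm

/-- The generic point of the generic fibre. -/
noncomputable def genF : Spec (CommRingCat.of L) ⟶ XF H L F :=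
  pullback.lift (gen H L) (Spec.map (CommRingCat.ofHom (algebraMap F L))) (genF_w H L F hFL)

theorem genF_fst : genF H L F hFL ≫ pullback.fst _ _ = gen H L := pullback.lift_fst _ _ _

theorem genF_snd : genF H L F hFL ≫ pullback.snd _ _ = Spec.map (CommRingCat.ofHom (algebraMap F L)) :=
  pullback.lift_snd _ _ _

include hFL in
theorem isIntegral_XF : IsIntegral (XF H L F) := by
  have : Nonempty (XF H L F) := ⟨genF H L F hFL (IsLocalRing.closedPoint L)⟩
  exact isIntegral_of_isOpenImmersion (pullback.fst (p H L)
    (Spec.map (CommRingCat.ofHom (algebraMap (PowerSeries k) F))))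

theorem isLocallyNoetherian_X : IsLocallyNoetherian (X H L) :=
  LocallyOfFiniteType.isLocallyNoetherian (p H L)

include hFL in
theorem genF_closedPoint : ∀ _ : IsIntegral (XF H L F),
    genF H L F hFL (IsLocalRing.closedPoint L) = genericPoint (XF H L F) := by
  intro hI
  have h1 := gen_closedPoint H L
  rw [← genF_fst H L F hFL, Scheme.Hom.comp_apply] at h1
  have h2 : (pullback.fst (p H L) (Spec.map (CommRingCat.ofHom (algebraMap (PowerSeries k) F))))
      (genericPoint (XF H L F)) = genericPoint (X H L) :=
    genericPoint_eq_of_isOpenImmersion _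
  rw [← h2] at h1
  exact (pullback.fst (p H L) (Spec.map (CommRingCat.ofHom (algebraMap (PowerSeries k) F)))).isOpenEmbedding.injective h1

theorem isNormal_XF : Pi1.IsNormalScheme (XF H L F) := by
  intro x
  have h := isNormal_X H L ((pullback.fst (p H L) (Spec.map (CommRingCat.ofHom (algebraMap (PowerSeries k) F)))) x)
  obtain ⟨h1, h2⟩ := h
  let e := (asIso ((pullback.fst (p H L) (Spec.map (CommRingCat.ofHom (algebraMap (PowerSeries k) F)))).stalkMap x)).commRingCatIsoToRingEquiv
  exact ⟨e.symm.toMulEquiv.isDomain, IsIntegrallyClosed.of_equiv e⟩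

theorem dim_XF : topologicalKrullDim (XF H L F) ≤ 1 := by
  let sF := Spec.map (CommRingCat.ofHom (algebraMap (PowerSeries k) F))
  let fN := (f (CommRingCat.of (PowerSeries k)) (phi A0 L) (tL H L)).fromNormalization
  let h : XF H L F ⟶ pullback (toB (CommRingCat.of (PowerSeries k))) sF :=
    pullback.lift (pullback.fst (p H L) sF ≫ fN) (pullback.snd (p H L) sF) (by
      rw [Category.assoc]
      exact pullback.condition)
  have hsq : IsPullback h (pullback.fst (p H L) sF) (pullback.fst (toB (CommRingCat.of (PowerSeries k))) sF) fN := by
    refine IsPullback.of_right ?_ (pullback.lift_fst _ _ _)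
      (IsPullback.of_hasPullback (toB (CommRingCat.of (PowerSeries k))) sF).flip
    rw [pullback.lift_snd]
    exact (IsPullback.of_hasPullback (p H L) sF).flip
  have hint : IsIntegralHom h := MorphismProperty.of_isPullback (P := @IsIntegralHom) hsq.flip inferInstance
  exact (Groth.Agent.S9683.result h).1.trans (dim_fiber_le sF)

include hFL in
/-- **The generic fibre.** -/
theorem generic_fibre : ∃ _ : IsIntegral (XF H L F), (∀ x : XF H L F, ValuationRing ((XF H L F).presheaf.stalk x)) ∧
    ∃ e : Spec (XF H L F).functionField ≅ Spec (CommRingCat.of L),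
      e.hom ≫ Spec.map (CommRingCat.ofHom (algebraMap F L)) =
        (XF H L F).fromSpecStalk (genericPoint _) ≫ pullback.snd _ _ := by
  have hI := isIntegral_XF H L F hFL
  have hN : IsLocallyNoetherian (X H L) := isLocallyNoetherian_X H L
  have hN' : IsLocallyNoetherian (XF H L F) :=
    LocallyOfFiniteType.isLocallyNoetherian (pullback.fst (p H L)
      (Spec.map (CommRingCat.ofHom (algebraMap (PowerSeries k) F))))
  refine ⟨hI, fun x => ?_, ?_⟩
  · by_cases hx : x = genericPoint (XF H L F)
    · subst hx
      exact inferInstanceAs (ValuationRing (XF H L F).functionField)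
    · have := K321.NormPid.isDiscreteValuationRing (isNormal_XF H L F) (dim_XF H L F) hx
      infer_instance
  · have hpre : IsPreimmersion (genF H L F hFL) := by
      have h1 : IsPreimmersion (genF H L F hFL ≫ pullback.fst (p H L)
        (Spec.map (CommRingCat.ofHom (algebraMap (PowerSeries k) F)))) := by
        rw [genF_fst]
        infer_instance
      exact IsPreimmersion.of_comp _ (pullback.fst (p H L)
        (Spec.map (CommRingCat.ofHom (algebraMap (PowerSeries k) F))))
    have hg := genF_closedPoint H L F hFL hI
    have hbij := K329.CurveExt.bijective_stalkClosedPointTo (genF H L F hFL) hg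
    let φ := Scheme.stalkClosedPointTo (genF H L F hFL)
    have hφ : IsIso φ := (ConcreteCategory.isIso_iff_bijective φ).2 hbij
    have hgφ : Spec.map φ ≫ (XF H L F).fromSpecStalk _ = genF H L F hFL :=
      Scheme.Spec_stalkClosedPointTo_fromSpecStalk _
    let ψ : (XF H L F).presheaf.stalk (genericPoint (XF H L F)) ⟶ CommRingCat.of L :=
      (XF H L F).presheaf.stalkSpecializes (specializes_of_eq hg) ≫ φ
    have hψ : IsIso ψ := by
      have : IsIso ((XF H L F).presheaf.stalkSpecializes (specializes_of_eq hg)) :=
        ((XF H L F).presheaf.stalkCongr (.of_eq hg.symm)).isIso_hom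
      infer_instance
    have hgψ : Spec.map ψ ≫ (XF H L F).fromSpecStalk (genericPoint (XF H L F)) = genF H L F hFL := by
      rw [Spec.map_comp, Category.assoc, Scheme.SpecMap_stalkSpecializes_fromSpecStalk]
      exact hgφ
    refine ⟨(asIso (Spec.map ψ)).symm, ?_⟩
    change inv (Spec.map ψ) ≫ _ = _
    rw [IsIso.inv_comp_eq, ← Category.assoc, hgψ, genF_snd]

end generic

end K538.ModelGen
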