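import Groth.Agent.Curves.K538.ModelSp
import Groth.Agent.Curves.K538.ModelC

/-!
# The model: the closed fibre, part 2
-/

set_option autoImplicit false
set_option linter.unusedSectionVars false

universe u

open CategoryTheory CategoryTheory.Limits AlgebraicGeometry

namespace K538.ModelJ

open K538.Charts K538.NormP1 K538.ModelAlg K538.ModelDef K538.ModelGen K538.ModelSp K538.ModelC
  Groth.Agent.EtpbcA.P1Charts Groth.Agent.CycB.P1Chart
open Groth.Agent.Dix.ProjProper (mapBase mapBase_toZ mapBase_toBase isPullback_mapBase)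

variable {k K : Type u} [Field k] [Field K] [Algebra k K] {w : PowerSeries K}
  {A0 A1 : Subalgebra (PowerSeries k) (PowerSeries K)}
  (H : Charts k K w A0 A1) (L : Type u) [Field L] [Algebra A0 L] [IsFractionRing A0 L]
  [Algebra.EssFiniteType k K] (htr : Algebra.trdeg k K = 1)

omit [Algebra.EssFiniteType k K] in
theorem alg_X' : algebraMap (PowerSeries k) (PowerSeries K) PowerSeries.X = PowerSeries.X := PowerSeries.map_X _

/-- The closed point. -/
noncomputable abbrev sk (k : Type u) [Field k] : Spec (CommRingCat.of k) ⟶ Spec (CommRingCat.of (PowerSeries k)) :=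
  Spec.map (CommRingCat.ofHom (PowerSeries.constantCoeff (R := k)))

/-- The closed fibre. -/
noncomputable abbrev C₁ (k : Type u) {K : Type u} [Field k] [Field K] [Algebra k K] (w : PowerSeries K) : Scheme.{u} :=
  C k (PowerSeries.constantCoeff w)

theorem mapBase_preimage (i : Fin (1 + 1)) :
    (mapBase 1 (sk k)) ⁻¹ᵁ (U (CommRingCat.of (PowerSeries k)) i) = U (CommRingCat.of k) i := by
  ext z
  exact mapBase_mem_range_iff i (sk k) z

theorem eta_p : eta H L ≫ p H L = genC k (PowerSeries.constantCoeff w) ≫ pC k (PowerSeries.constantCoeff w) ≫ sk k := by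
  rw [eta, Category.assoc, zeta_p, ← Category.assoc (genC _ _), genC_pC, ← Spec.map_comp, ← Spec.map_comp,
    ← CommRingCat.ofHom_comp, ← CommRingCat.ofHom_comp]
  congr 2

include htr in
/-- The morphism from the curve to the model. -/
theorem exists_j : ∃ j : C₁ k w ⟶ X H L, j ≫ p H L = pC k (PowerSeries.constantCoeff w) ≫ sk k ∧
    genC k (PowerSeries.constantCoeff w) ≫ j = eta H L := by
  have := isPreimmersion_genC H.tr htr
  exact K329.CurveExt.exists_extension (pC k (PowerSeries.constantCoeff w) ≫ sk k) (valuationRing_C H.tr htr)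
    (p H L) (genC k (PowerSeries.constantCoeff w)) genC_closedPoint (eta H L) (eta_p H L)

include H in
theorem Aof_sp (i : Fin (1 + 1)) (y : K) : IsIntegral (Algebra.adjoin k {tt (PowerSeries.constantCoeff w) i}) y ↔
    ∃ f ∈ Aof A0 A1 i, PowerSeries.constantCoeff f = y := by
  fin_cases i
  · exact H.sp0 y
  · exact H.sp1 y

variable {L}
variable {j : C₁ k w ⟶ X H L} (hj : j ≫ p H L = pC k (PowerSeries.constantCoeff w) ≫ sk k)
  (hj' : genC k (PowerSeries.constantCoeff w) ≫ j = eta H L)

include hj hj'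

theorem j_fN : j ≫ (f (CommRingCat.of (PowerSeries k)) (phi A0 L) (tL H L)).fromNormalization =
    (f (CommRingCat.of k) (algebraMap k K) (PowerSeries.constantCoeff w)).fromNormalization ≫ mapBase 1 (sk k) := by
  have h1 : IsDominant (genC k (PowerSeries.constantCoeff w)) := by
    unfold genC
    infer_instance
  have h2 : IsReduced (C₁ k w) := inferInstance
  refine ext_of_isDominant_of_isSeparated (toB (CommRingCat.of (PowerSeries k))) ?_
    (genC k (PowerSeries.constantCoeff w)) ?_
  · rw [Category.assoc, Category.assoc]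
    have h3 : mapBase 1 (sk k) ≫ toB (CommRingCat.of (PowerSeries k)) = toB (CommRingCat.of k) ≫ sk k :=
      mapBase_toBase 1 (sk k)
    rw [h3]
    exact hj
  · rw [← Category.assoc, hj', eta_fN, ← Category.assoc, genC, Scheme.Hom.toNormalization_fromNormalization]

theorem j_preimage (i : Fin (1 + 1)) : j ⁻¹ᵁ (W H L i) =
    V (CommRingCat.of k) (algebraMap k K) (PowerSeries.constantCoeff w) i := by
  change j ⁻¹ᵁ ((f (CommRingCat.of (PowerSeries k)) (phi A0 L) (tL H L)).fromNormalization ⁻¹ᵁ _) = _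
  rw [← Scheme.Hom.comp_preimage, j_fN H hj hj', Scheme.Hom.comp_preimage, mapBase_preimage]

theorem isAffineHom_j : IsAffineHom j := by
  have h0 : IsAffineHom (mapBase 1 (sk k)) :=
    MorphismProperty.of_isPullback (P := @IsAffineHom) (isPullback_mapBase 1 (sk k)).flip inferInstance
  have h1 : IsAffineHom (j ≫ (f (CommRingCat.of (PowerSeries k)) (phi A0 L) (tL H L)).fromNormalization) := by
    rw [j_fN H hj hj']
    infer_instance
  exact IsAffineHom.of_comp j (f (CommRingCat.of (PowerSeries k)) (phi A0 L) (tL H L)).fromNormalization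

/-- The sections of the curve over the charts. -/
theorem kappa (i : Fin (1 + 1)) : ∀ (V' : (C₁ k w).Opens) (_ : V' = V (CommRingCat.of k) (algebraMap k K) (PowerSeries.constantCoeff w) i)
    (h : ⊤ ≤ genC k (PowerSeries.constantCoeff w) ⁻¹ᵁ V'),
    Function.Injective ((genC k (PowerSeries.constantCoeff w)).appLE V' ⊤ h ≫ (Scheme.ΓSpecIso (CommRingCat.of K)).hom).hom ∧
    ∀ x : K, x ∈ ((genC k (PowerSeries.constantCoeff w)).appLE V' ⊤ h ≫ (Scheme.ΓSpecIso (CommRingCat.of K)).hom).hom.range ↔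
      IsIntegral (Algebra.adjoin k {tt (PowerSeries.constantCoeff w) i}) x := by
  rintro V' rfl h
  refine ⟨nK_injective (CommRingCat.of k) (algebraMap k K) H.ne i, fun x => ?_⟩
  refine (mem_range_nK (CommRingCat.of k) (algebraMap k K) H.ne i x).trans ?_
  have h1 : (evl (CommRingCat.of k) (algebraMap k K) (PowerSeries.constantCoeff w) i).range =
      (algebraMap (Algebra.adjoin k {tt (PowerSeries.constantCoeff w) i}) K).range := by
    rw [range_evl]
    ext x
    constructor
    · intro hx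
      exact ⟨⟨x, hx⟩, rfl⟩
    · rintro ⟨y, rfl⟩
      exact y.2
  exact ⟨Groth.Agent.Ega2.NormChart.isIntegralElem_of_range_le _ _ h1.le,
    Groth.Agent.Ega2.NormChart.isIntegralElem_of_range_le _ _ h1.ge⟩

theorem kappa_app (i : Fin (1 + 1)) (h : ⊤ ≤ genC k (PowerSeries.constantCoeff w) ⁻¹ᵁ (j ⁻¹ᵁ (W H L i)))
    (z : Γ(X H L, W H L i)) :
    ((genC k (PowerSeries.constantCoeff w)).appLE (j ⁻¹ᵁ (W H L i)) ⊤ h ≫
      (Scheme.ΓSpecIso (CommRingCat.of K)).hom).hom ((j.app (W H L i)).hom z) =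
      PowerSeries.constantCoeff (e H L i z) := by
  have h0 : ⊤ ≤ (genC k (PowerSeries.constantCoeff w) ≫ j) ⁻¹ᵁ (W H L i) := h
  have h1 : j.app (W H L i) ≫ (genC k (PowerSeries.constantCoeff w)).appLE (j ⁻¹ᵁ (W H L i)) ⊤ h =
      (genC k (PowerSeries.constantCoeff w) ≫ j).appLE (W H L i) ⊤ h0 := by
    rw [Scheme.Hom.app_eq_appLE, Scheme.Hom.appLE_comp_appLE]
  have h2 : ∀ (g : Spec (CommRingCat.of K) ⟶ X H L) (_ : g = eta H L) (h' : ⊤ ≤ g ⁻¹ᵁ (W H L i)),
      g.appLE (W H L i) ⊤ h' ≫ (Scheme.ΓSpecIso (CommRingCat.of K)).hom =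
        CommRingCat.ofHom ((PowerSeries.constantCoeff (R := K)).comp (e H L i)) := by
    intro g hg h'
    rw [eta_eq H L i] at hg
    subst hg
    exact fromSpec_appLE (isAffineOpen_V (CommRingCat.of (PowerSeries k)) (phi A0 L) (tL H L) i) _ _
  have h3 := h2 _ hj' h0
  rw [← h1, Category.assoc] at h3
  exact congrArg (fun ψ => ψ.hom z) h3

theorem top_le_gen (i : Fin (1 + 1)) :
    ⊤ ≤ genC k (PowerSeries.constantCoeff w) ⁻¹ᵁ (j ⁻¹ᵁ (W H L i)) := by
  rw [j_preimage H hj hj', genC, ← Scheme.Hom.comp_preimage, Scheme.Hom.toNormalization_fromNormalization,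
    preimage_U (CommRingCat.of k) (algebraMap k K) H.ne i]

theorem surjective_app (i : Fin (1 + 1)) : Function.Surjective (j.app (W H L i)).hom := by
  intro y
  have h := top_le_gen H hj hj' i
  obtain ⟨h1, h2⟩ := kappa H hj hj' i _ (j_preimage H hj hj' i) h
  obtain ⟨f, hf, hfy⟩ := (Aof_sp H i _).mp ((h2 _).mp ⟨y, rfl⟩)
  obtain ⟨z, rfl⟩ := (mem_e H L i f).mp hf
  refine ⟨z, h1 ?_⟩
  rw [kappa_app H hj hj' i h]
  exact hfy

theorem ker_app (i : Fin (1 + 1)) : RingHom.ker (j.app (W H L i)).hom =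
    Ideal.span {((p H L).appLE ⊤ (W H L i) le_top).hom
      ((Scheme.ΓSpecIso (CommRingCat.of (PowerSeries k))).inv.hom (PowerSeries.X : PowerSeries k))} := by
  have h := top_le_gen H hj hj' i
  obtain ⟨h1, h2⟩ := kappa H hj hj' i _ (j_preimage H hj hj' i) h
  set π := ((p H L).appLE ⊤ (W H L i) le_top).hom
      ((Scheme.ΓSpecIso (CommRingCat.of (PowerSeries k))).inv.hom (PowerSeries.X : PowerSeries k)) with hπ
  have hπX : e H L i π = (PowerSeries.X : PowerSeries K) := by
    rw [hπ]
    exact (e_struct H L i (PowerSeries.X : PowerSeries k)).trans alg_X'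
  ext z
  have h3 : z ∈ RingHom.ker (j.app (W H L i)).hom ↔ PowerSeries.constantCoeff (e H L i z) = 0 := by
    rw [RingHom.mem_ker, ← kappa_app H hj hj' i h]
    exact (map_eq_zero_iff _ h1).symm
  rw [h3, Ideal.mem_span_singleton]
  constructor
  · intro h4
    obtain ⟨g, hg⟩ := PowerSeries.X_dvd_iff.mpr h4
    have h5 : g ∈ Aof A0 A1 i := Aof_X H i g (by rw [← hg]; exact (mem_e H L i _).mpr ⟨z, rfl⟩)
    obtain ⟨z', hz'⟩ := (mem_e H L i g).mp h5
    refine ⟨z', e_injective H L i ?_⟩
    rw [map_mul, hπX, hz', hg]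
  · rintro ⟨z', rfl⟩
    rw [map_mul, hπX, map_mul, PowerSeries.constantCoeff_X, zero_mul]

end K538.ModelJ
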