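import Groth.Agent.Curves.K538.ModelJ
import Groth.Agent.Curves.K130.Fib

/-!
# The model of a patched curve over `k⟦X⟧`
-/

set_option autoImplicit false
set_option linter.unusedSectionVars false

universe u

open CategoryTheory CategoryTheory.Limits AlgebraicGeometry

namespace K538.ModelMain

open K538.Charts K538.NormP1 K538.ModelAlg K538.ModelDef K538.ModelGen K538.ModelSp K538.ModelC K538.ModelJ

/-- **A smooth proper model over `k⟦X⟧` from the chart rings.** -/
theorem exists_model (k K : Type u) [Field k] [Field K] [Algebra k K] [Algebra.EssFiniteType k K]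
    (htr : Algebra.trdeg k K = 1) (w : PowerSeries K) (A0 A1 : Subalgebra (PowerSeries k) (PowerSeries K))
    (H : Charts k K w A0 A1) (C₀ : Scheme.{u}) (g₀ : C₀ ⟶ Spec (CommRingCat.of k)) [IsIntegral C₀] [IsProper g₀]
    (hv : ∀ x : C₀, ValuationRing (C₀.presheaf.stalk x)) (e : Spec C₀.functionField ≅ Spec (CommRingCat.of K))
    (he : e.hom ≫ Spec.map (CommRingCat.ofHom (algebraMap k K)) = C₀.fromSpecStalk (genericPoint C₀) ≫ g₀)
    (F : Type u) [Field F] [Algebra (PowerSeries k) F] [IsFractionRing (PowerSeries k) F]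
    (L : Type u) [Field L] [Algebra A0 L] [IsFractionRing A0 L] [Algebra F L]
    (hFL : ∀ c : PowerSeries k, algebraMap F L (algebraMap _ F c) = algebraMap A0 L (algebraMap _ A0 c)) :
    ∃ (X : Scheme.{u}) (p : X ⟶ Spec (CommRingCat.of (PowerSeries k))) (i : C₀ ⟶ X), IsProper p ∧ Flat p ∧
      IsPullback i g₀ p (Spec.map (CommRingCat.ofHom (PowerSeries.constantCoeff (R := k)))) ∧
      ∃ _ : IsIntegral (pullback p (Spec.map (CommRingCat.ofHom (algebraMap (PowerSeries k) F)))),
        (∀ x : (pullback p (Spec.map (CommRingCat.ofHom (algebraMap (PowerSeries k) F))) :),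
          ValuationRing ((pullback p (Spec.map (CommRingCat.ofHom (algebraMap (PowerSeries k) F)))).presheaf.stalk x)) ∧
        ∃ e : Spec (pullback p (Spec.map (CommRingCat.ofHom (algebraMap (PowerSeries k) F)))).functionField ≅
          Spec (CommRingCat.of L), e.hom ≫ Spec.map (CommRingCat.ofHom (algebraMap F L)) =
            (pullback p (Spec.map (CommRingCat.ofHom (algebraMap (PowerSeries k) F)))).fromSpecStalk (genericPoint _) ≫
              pullback.snd _ _ := by
  obtain ⟨j, hj, hj'⟩ := exists_j H L htr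
  have haff := isAffineHom_j H hj hj'
  have hpb : IsPullback j (pC k (PowerSeries.constantCoeff w)) (p H L) (sk k) := by
    refine K130.Fib.isPullback_of_charts (PowerSeries.constantCoeff (R := k)) ?_ (PowerSeries.X : PowerSeries k) ?_
      (p H L) (pC k (PowerSeries.constantCoeff w)) j hj (ι := ULift.{u} (Fin (1 + 1)))
      (fun i => W H L i.down) (fun i => isAffineOpen_V _ _ _ _) ?_ (fun i => surjective_app H hj hj' i.down)
      (fun i => ker_app H hj hj' i.down)
    · intro a
      exact ⟨PowerSeries.C a, PowerSeries.constantCoeff_C a⟩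
    · ext a
      rw [RingHom.mem_ker, Ideal.mem_span_singleton, PowerSeries.X_dvd_iff]
    · have h1 := iSup_V (CommRingCat.of (PowerSeries k)) (phi A0 L) (tL H L)
      rw [← h1]
      exact (Equiv.ulift.{u} (α := Fin (1 + 1))).iSup_congr fun i => rfl
  obtain ⟨i, hi⟩ := ModelC.exists_iso H.tr htr C₀ g₀ hv e he
  refine ⟨X H L, p H L, i.hom ≫ j, inferInstance, inferInstance, ?_, generic_fibre H L F hFL⟩
  refine IsPullback.of_iso hpb i.symm (Iso.refl _) (Iso.refl _) (Iso.refl _) ?_ ?_ ?_ ?_
  · simp
  · simp [← hi]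
  · simp
  · simp

end K538.ModelMain
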