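import Groth.Agent.Curves.K538.ModelGen

/-!
# The model: the closed fibre, part 1
-/

set_option autoImplicit false
set_option linter.unusedSectionVars false

universe u

open CategoryTheory CategoryTheory.Limits AlgebraicGeometry

namespace K538.ModelSp

open K538.Charts K538.NormP1 K538.ModelAlg K538.ModelDef K538.ModelGen Groth.Agent.EtpbcA.P1Charts
  Groth.Agent.CycB.P1Chart
open Groth.Agent.Dix.ProjProper (mapBase mapBase_toZ mapBase_toBase isPullback_mapBase)

/-- Base change of points of the projective line. -/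
theorem pt_mapBase {X Y : Scheme.{u}} {B : CommRingCat.{u}} (i : Fin (1 + 1)) (g : Spec B ⟶ X) (b : B) (s : X ⟶ Y) :
    pt i g b ≫ mapBase 1 s = pt i (g ≫ s) b := by
  apply hom_ext
  · rw [Category.assoc, pt_toZ]
    have : mapBase 1 s ≫ toZ Y = toZ X := mapBase_toZ 1 s
    rw [this, pt_toZ]
  · rw [Category.assoc, mapBase_toBase, ← Category.assoc, pt_toBase, pt_toBase]

theorem specMap_eq {X : Scheme.{u}} {R : CommRingCat.{u}} (g : X ⟶ Spec R) {V : X.Opens} (hV : IsAffineOpen V) :
    hV.fromSpec ≫ g = Spec.map ((Scheme.ΓSpecIso R).inv ≫ g.appLE ⊤ V (show V ≤ g ⁻¹ᵁ ⊤ from le_top)) := by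
  rw [Spec.map_comp, ← IsAffineOpen.SpecMap_appLE_fromSpec g (isAffineOpen_top (Spec R)) hV le_top,
    IsAffineOpen.fromSpec_top, Scheme.isoSpec_Spec_inv]

variable {k K : Type u} [Field k] [Field K] [Algebra k K] {w : PowerSeries K}
  {A0 A1 : Subalgebra (PowerSeries k) (PowerSeries K)}
  (H : Charts k K w A0 A1) (L : Type u) [Field L] [Algebra A0 L] [IsFractionRing A0 L]

local notation "Ω" => FractionRing (PowerSeries K)

/-- The sections in `K⟦X⟧`. -/
noncomputable def e (i : Fin (1 + 1)) : Γ(X H L, W H L i) →+* PowerSeries K := (exists_e H L i).choose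

theorem alg_e (i : Fin (1 + 1)) (z : Γ(X H L, W H L i)) :
    algebraMap (PowerSeries K) Ω (e H L i z) = theta A0 L (nL H L i z) := (exists_e H L i).choose_spec.1 z

theorem mem_e (i : Fin (1 + 1)) (f : PowerSeries K) : f ∈ Aof A0 A1 i ↔ ∃ z, e H L i z = f :=
  (exists_e H L i).choose_spec.2 f

omit H in
theorem alg_injective : Function.Injective (algebraMap (PowerSeries K) Ω) := IsFractionRing.injective _ _

theorem e_injective (i : Fin (1 + 1)) : Function.Injective (e H L i) := by
  intro a b hab
  apply nK_injective (CommRingCat.of (PowerSeries k)) (phi A0 L) (tL_ne H L) i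
  apply (theta A0 L).injective
  have h1 := alg_e H L i a
  have h2 := alg_e H L i b
  rw [hab] at h1
  exact h1.symm.trans h2

/-- The `K⟦X⟧`-point of the model. -/
noncomputable def zeta (i : Fin (1 + 1)) : Spec (CommRingCat.of (PowerSeries K)) ⟶ X H L :=
  Spec.map (CommRingCat.ofHom (e H L i)) ≫
    (isAffineOpen_V (CommRingCat.of (PowerSeries k)) (phi A0 L) (tL H L) i).fromSpec

theorem zeta_gen (i : Fin (1 + 1)) : Spec.map (CommRingCat.ofHom (algebraMap (PowerSeries K) Ω)) ≫ zeta H L i =
    Spec.map (CommRingCat.ofHom (theta A0 L)) ≫ gen H L := by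
  have h1 : gen H L = Spec.map (CommRingCat.ofHom (nL H L i)) ≫
      (isAffineOpen_V (CommRingCat.of (PowerSeries k)) (phi A0 L) (tL H L) i).fromSpec :=
    (toNormalization_eq (CommRingCat.of (PowerSeries k)) (phi A0 L) (tL_ne H L) i).symm
  rw [h1, zeta, ← Category.assoc, ← Category.assoc, ← Spec.map_comp, ← Spec.map_comp, ← CommRingCat.ofHom_comp,
    ← CommRingCat.ofHom_comp]
  congr 3
  exact RingHom.ext fun z => alg_e H L i z

theorem zeta_p (i : Fin (1 + 1)) : zeta H L i ≫ p H L =
    Spec.map (CommRingCat.ofHom (algebraMap (PowerSeries k) (PowerSeries K))) := by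
  have h1 : zeta H L i ≫ p H L = Spec.map (Spec.preimage (zeta H L i ≫ p H L)) := (Spec.map_preimage _).symm
  rw [h1]
  congr 1
  apply CommRingCat.hom_ext
  apply RingHom.ext
  intro c
  apply alg_injective (K := K)
  have h2 : Spec.map (CommRingCat.ofHom (algebraMap (PowerSeries K) Ω)) ≫
      Spec.map (Spec.preimage (zeta H L i ≫ p H L)) =
      Spec.map (CommRingCat.ofHom ((theta A0 L).comp (phi A0 L))) := by
    rw [← h1, ← Category.assoc, zeta_gen, Category.assoc, gen_p, ← Spec.map_comp, ← CommRingCat.ofHom_comp]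
  rw [← Spec.map_comp] at h2
  have h3 := Spec.map_injective h2
  have h4 := congrArg (fun ψ => ψ.hom c) h3
  change algebraMap (PowerSeries K) Ω _ = theta A0 L (phi A0 L c) at h4
  rw [theta_phi] at h4
  exact h4

omit H in
instance isDominant_alg : IsDominant (Spec.map (CommRingCat.ofHom (algebraMap (PowerSeries K) Ω))) := by
  refine ⟨?_⟩
  change DenseRange (PrimeSpectrum.comap (algebraMap (PowerSeries K) Ω))
  rw [PrimeSpectrum.denseRange_comap_iff_ker_le_nilRadical,
    (RingHom.injective_iff_ker_eq_bot _).1 (alg_injective (K := K))]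
  exact bot_le

theorem zeta_eq (i : Fin (1 + 1)) : zeta H L i = zeta H L 0 := by
  have : IsSeparated (p H L) := inferInstance
  refine ext_of_isDominant_of_isSeparated (p H L) ?_ (Spec.map (CommRingCat.ofHom (algebraMap (PowerSeries K) Ω))) ?_
  · rw [zeta_p, zeta_p]
  · rw [zeta_gen, zeta_gen]

/-- The generic point of the closed fibre. -/
noncomputable def eta : Spec (CommRingCat.of K) ⟶ X H L :=
  Spec.map (CommRingCat.ofHom (PowerSeries.constantCoeff (R := K))) ≫ zeta H L 0

theorem eta_eq (i : Fin (1 + 1)) : eta H L =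
    Spec.map (CommRingCat.ofHom ((PowerSeries.constantCoeff (R := K)).comp (e H L i))) ≫
      (isAffineOpen_V (CommRingCat.of (PowerSeries k)) (phi A0 L) (tL H L) i).fromSpec := by
  rw [eta, ← zeta_eq H L i, zeta, ← Category.assoc, ← Spec.map_comp, ← CommRingCat.ofHom_comp]

theorem e_coord (i : Fin (1 + 1)) {α : Polynomial (CommRingCat.of (PowerSeries k)) →+* Γ(X H L, W H L i)}
    (hα : (nL H L i).comp α = evl (CommRingCat.of (PowerSeries k)) (phi A0 L) (tL H L) i)
    (q : Polynomial (PowerSeries k)) : e H L i (α q) = Polynomial.aeval (ww w i) q := by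
  apply alg_injective (K := K)
  rw [alg_e]
  have h1 : nL H L i (α q) = evl (CommRingCat.of (PowerSeries k)) (phi A0 L) (tL H L) i q :=
    congrArg (fun ψ => ψ q) hα
  rw [h1, theta_evl]

/-- The structure map on sections. -/
theorem e_struct (i : Fin (1 + 1)) (c : PowerSeries k) :
    e H L i (((p H L).appLE ⊤ (W H L i) le_top).hom ((Scheme.ΓSpecIso (CommRingCat.of (PowerSeries k))).inv.hom c)) =
      algebraMap (PowerSeries k) (PowerSeries K) c := by
  have h1 := zeta_p H L i
  rw [zeta, Category.assoc, specMap_eq, ← Spec.map_comp] at h1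
  have h2 := Spec.map_injective h1
  exact congrArg (fun ψ => ψ.hom c) h2

/-- The point of `P^1` below the generic point of the closed fibre. -/
theorem eta_fN : eta H L ≫ (f (CommRingCat.of (PowerSeries k)) (phi A0 L) (tL H L)).fromNormalization =
    f (CommRingCat.of k) (algebraMap k K) (PowerSeries.constantCoeff w) ≫
      mapBase 1 (Spec.map (CommRingCat.ofHom (PowerSeries.constantCoeff (R := k)))) := by
  obtain ⟨α, hα, hα'⟩ := exists_coord (CommRingCat.of (PowerSeries k)) (phi A0 L) (tL_ne H L) 0
  rw [eta_eq H L 0, fromSpec_pt (CommRingCat.of (PowerSeries k)) (phi A0 L) 0 hα, f, pt_mapBase,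
    ← Spec.map_comp, ← CommRingCat.ofHom_comp]
  have h1 : (CommRingCat.ofHom ((PowerSeries.constantCoeff (R := K)).comp (e H L 0))).hom (α Polynomial.X) =
      PowerSeries.constantCoeff w := by
    change PowerSeries.constantCoeff (e H L 0 (α Polynomial.X)) = _
    rw [e_coord H L 0 hα', Polynomial.aeval_X]
    rfl
  have h2 : (((CommRingCat.ofHom ((PowerSeries.constantCoeff (R := K)).comp (e H L 0))).hom.comp α).comp
      Polynomial.C) = (algebraMap k K).comp (PowerSeries.constantCoeff (R := k)) := by
    apply RingHom.ext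
    intro c
    change PowerSeries.constantCoeff (e H L 0 (α (Polynomial.C c))) = _
    rw [e_coord H L 0 hα', Polynomial.aeval_C]
    change PowerSeries.constantCoeff (PowerSeries.map (algebraMap k K) c) =
      algebraMap k K (PowerSeries.constantCoeff (R := k) c)
    rw [← PowerSeries.coeff_zero_eq_constantCoeff_apply, ← PowerSeries.coeff_zero_eq_constantCoeff_apply]
    exact PowerSeries.coeff_map _ _ _
  rw [h1, h2]

end K538.ModelSp
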