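import Groth.Agent.MiscA.WCPlaceRes
import Groth.Agent.Models.FFRR3
import Mathlib.RingTheory.PowerSeries.Ideal
import Mathlib.RingTheory.PowerSeries.Inverse

/-!
# Patching a function field over the formal power series ring

Let `K` be a function field over `k` with its curve of places `C`.  A *glueing* is a family of
endomorphisms `Φ P` of `K⟦X⟧` (`P` a place), congruent to the identity modulo `X`, fixing `k⟦X⟧`, almost all of
them the identity.  For a divisor `E` the module `M E` consists of the power series `f` such that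
all coefficients of `Φ P f` have a pole of order at most `E P` at `P`.
-/

set_option autoImplicit false

open WithZero PowerSeries

namespace K538.Patch

open Groth.Agent.Models.FFRR Groth.Agent.Models.FFLen

/-- A glueing datum. -/
structure Glue (k K ι : Type*) [Field k] [Field K] [Algebra k K] where
  /-- the glueing automorphisms -/
  Φ : ι → (PowerSeries K →+* PowerSeries K)
  const : ∀ P f, constantCoeff (Φ P f) = constantCoeff f
  map_X : ∀ P, Φ P (X : PowerSeries K) = X
  map_alg : ∀ P (c : PowerSeries k), Φ P (algebraMap (PowerSeries k) (PowerSeries K) c) =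
    algebraMap (PowerSeries k) (PowerSeries K) c
  finite : {P | Φ P ≠ RingHom.id _}.Finite

section coeff

variable {K : Type*} [Field K] (v : Valuation K ℤᵐ⁰)

/-- All coefficients have a pole of order at most `n`. -/
def Le (n : ℤ) (f : PowerSeries K) : Prop := ∀ i, v (coeff i f) ≤ exp n

variable {v}

theorem Le.mono {m n : ℤ} (h : m ≤ n) {f : PowerSeries K} (hf : Le v m f) : Le v n f :=
  fun i => (hf i).trans (exp_le_exp.mpr h)

theorem Le.add {n : ℤ} {f g : PowerSeries K} (hf : Le v n f) (hg : Le v n g) : Le v n (f + g) := by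
  intro i
  rw [map_add]
  exact (v.map_add _ _).trans (max_le (hf i) (hg i))

theorem Le.neg {n : ℤ} {f : PowerSeries K} (hf : Le v n f) : Le v n (-f) := by
  intro i
  rw [map_neg, Valuation.map_neg]
  exact hf i

theorem Le.sub {n : ℤ} {f g : PowerSeries K} (hf : Le v n f) (hg : Le v n g) : Le v n (f - g) := by
  rw [sub_eq_add_neg]
  exact hf.add hg.neg

theorem Le.zero (n : ℤ) : Le v n 0 := by
  intro i
  rw [map_zero, map_zero]
  exact zero_le

theorem Le.mul {m n : ℤ} {f g : PowerSeries K} (hf : Le v m f) (hg : Le v n g) : Le v (m + n) (f * g) := by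
  intro i
  rw [coeff_mul]
  refine v.map_sum_le fun x _ => ?_
  rw [map_mul, exp_add]
  exact mul_le_mul' (hf _) (hg _)

theorem Le.one : Le v 0 1 := by
  intro i
  rw [coeff_one]
  split_ifs
  · rw [map_one, exp_zero]
  · rw [map_zero]
    exact zero_le

theorem Le.pow {m : ℤ} {f : PowerSeries K} (hf : Le v m f) (n : ℕ) : Le v (n * m) (f ^ n) := by
  induction n with
  | zero => simpa using Le.one
  | succ n ih =>
    rw [pow_succ]
    have := ih.mul hf
    convert this using 1
    push_cast
    ring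

theorem le_X : Le v 0 (X : PowerSeries K) := by
  intro i
  rw [coeff_X]
  split_ifs
  · rw [map_one, exp_zero]
  · rw [map_zero]
    exact zero_le

theorem le_X_mul_iff {n : ℤ} {f : PowerSeries K} : Le v n (X * f) ↔ Le v n f := by
  constructor
  · intro h i
    have := h (i + 1)
    rwa [coeff_succ_X_mul] at this
  · intro h
    have := (le_X (v := v)).mul h
    rwa [zero_add] at this

end coeff

section

variable {k K ι : Type*} [Field k] [Field K] [Algebra k K] (C : Crv k K ι) (G : Glue k K ι)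

theorem le_alg (P : ι) (c : PowerSeries k) : Le (C.v P) 0 (algebraMap (PowerSeries k) (PowerSeries K) c) := by
  intro i
  have : coeff i (algebraMap (PowerSeries k) (PowerSeries K) c) = algebraMap k K (coeff i c) := by
    exact coeff_map _ _ _
  rw [this, exp_zero]
  exact C.v_const P _

/-- The module `M E`. -/
def M (E : ι →₀ ℤ) : Submodule (PowerSeries k) (PowerSeries K) where
  carrier := {f | ∀ P, Le (C.v P) (E P) (G.Φ P f)}
  add_mem' {f g} hf hg P := by
    rw [map_add]
    exact (hf P).add (hg P)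
  zero_mem' P := by
    rw [map_zero]
    exact Le.zero _
  smul_mem' c f hf P := by
    rw [Algebra.smul_def, map_mul, G.map_alg]
    have := (le_alg C P c).mul (hf P)
    rwa [zero_add] at this

theorem mem_M {E : ι →₀ ℤ} {f : PowerSeries K} : f ∈ M C G E ↔ ∀ P, Le (C.v P) (E P) (G.Φ P f) := Iff.rfl

theorem M_mono {E E' : ι →₀ ℤ} (h : E ≤ E') : M C G E ≤ M C G E' := fun _ hf P => (hf P).mono (h P)

theorem mul_mem_M {E E' : ι →₀ ℤ} {f g : PowerSeries K} (hf : f ∈ M C G E) (hg : g ∈ M C G E') :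
    f * g ∈ M C G (E + E') := by
  intro P
  rw [map_mul, Finsupp.add_apply]
  exact (hf P).mul (hg P)

theorem one_mem_M : (1 : PowerSeries K) ∈ M C G 0 := by
  intro P
  rw [map_one]
  exact Le.one

theorem const_mem_L {E : ι →₀ ℤ} {f : PowerSeries K} (hf : f ∈ M C G E) : constantCoeff f ∈ C.L E := by
  rw [C.mem_L]
  intro P
  have := hf P 0
  rwa [coeff_zero_eq_constantCoeff_apply, G.const] at this

theorem mem_M_X_mul {E : ι →₀ ℤ} {f : PowerSeries K} : X * f ∈ M C G E ↔ f ∈ M C G E := by
  simp only [mem_M, map_mul, G.map_X, le_X_mul_iff]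

theorem exists_of_const_eq_zero {E : ι →₀ ℤ} {f : PowerSeries K} (hf : f ∈ M C G E) (h : constantCoeff f = 0) :
    ∃ g ∈ M C G E, f = X * g := by
  obtain ⟨g, rfl⟩ := PowerSeries.X_dvd_iff.mpr h
  exact ⟨g, (mem_M_X_mul C G).mp hf, rfl⟩

/-- The approximation hypothesis (vanishing of `H¹`). -/
def Good (E : ι →₀ ℤ) : Prop := C.Rk ≤ C.AA E ⊔ Crv.KK k K ι

variable {C} in
theorem Good.mono {E E' : ι →₀ ℤ} (h : E ≤ E') (hE : Good C E) : Good C E' :=
  hE.trans (sup_le_sup_right (C.AA_mono h) _)

variable {C} in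
theorem Good.exists {E : ι →₀ ℤ} (hE : Good C E) {α : ι → K} (hα : {P | ¬ C.v P (α P) ≤ 1}.Finite) :
    ∃ b : K, ∀ P, C.v P (b - α P) ≤ exp (E P) := by
  obtain ⟨β, hβ, γ, ⟨b, hb⟩, h⟩ := Submodule.mem_sup.mp (hE (show α ∈ C.Rk from hα))
  refine ⟨b, fun P => ?_⟩
  have h1 : α P = β P + b := by
    rw [← h, ← hb]
    rfl
  have h2 : b - α P = - β P := by rw [h1]; ring
  rw [h2, Valuation.map_neg]
  exact hβ P

theorem good_of_i_eq_zero (hC : C.Fin) {E : ι →₀ ℤ} (h : C.i E = 0) : Good C E := by
  have h1 : C.h1 E = 0 := by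
    have h2 := hC.h1_ne_top E
    rcases (ENat.toNat_eq_zero).mp h with h | h
    · exact h
    · exact absurd h h2
  exact rlen_eq_zero_iff.mp h1

variable {C}

/-- One step of the lifting. -/
theorem exists_step {E : ι →₀ ℤ} (hE : Good C E) (n : ℕ) (F : PowerSeries K)
    (hF : ∀ P, ∀ i < n, C.v P (coeff i (G.Φ P F)) ≤ exp (E P)) :
    ∃ b : K, ∀ P, ∀ i < n + 1, C.v P (coeff i (G.Φ P (F + PowerSeries.C b * X ^ n))) ≤ exp (E P) := by
  have hfin : {P | ¬ C.v P (- coeff n (G.Φ P F)) ≤ 1}.Finite := by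
    refine (G.finite.union (C.finite_pole (coeff n F))).subset ?_
    intro P hP
    by_cases h : G.Φ P = RingHom.id _
    · right
      have : ¬ C.v P (- coeff n (G.Φ P F)) ≤ 1 := hP
      rw [h, Valuation.map_neg] at this
      exact this
    · left
      exact h
  obtain ⟨b, hb⟩ := hE.exists hfin
  refine ⟨b, fun P i hi => ?_⟩
  rw [map_add, map_mul, map_pow, G.map_X, map_add, mul_comm, coeff_X_pow_mul']
  rcases Nat.lt_succ_iff_lt_or_eq.mp hi with h | rfl
  · rw [if_neg (by lia), add_zero]
    exact hF P i h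
  · rw [if_pos le_rfl, Nat.sub_self, coeff_zero_eq_constantCoeff_apply, G.const, constantCoeff_C]
    have h1 := hb P
    rw [sub_neg_eq_add, add_comm] at h1
    exact h1

theorem exists_lift {E : ι →₀ ℤ} (hE : Good C E) {a : K} (ha : a ∈ C.L E) :
    ∃ f ∈ M C G E, constantCoeff f = a := by
  classical
  have hstep : ∀ (n : ℕ) (F : {F : PowerSeries K // ∀ P, ∀ i < n + 1, C.v P (coeff i (G.Φ P F)) ≤ exp (E P)}),
      ∃ F' : {F : PowerSeries K // ∀ P, ∀ i < n + 1 + 1, C.v P (coeff i (G.Φ P F)) ≤ exp (E P)},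
        ∀ i < n + 1, coeff i F'.1 = coeff i F.1 := by
    rintro n ⟨F, hF⟩
    obtain ⟨b, hb⟩ := exists_step G hE (n + 1) F hF
    refine ⟨⟨_, hb⟩, fun i hi => ?_⟩
    rw [map_add, mul_comm, coeff_X_pow_mul', if_neg (by lia), add_zero]
  choose nx hnx using hstep
  let F₀ : {F : PowerSeries K // ∀ P, ∀ i < 0 + 1, C.v P (coeff i (G.Φ P F)) ≤ exp (E P)} :=
    ⟨PowerSeries.C a, fun P i hi => by
      obtain rfl : i = 0 := by lia
      rw [coeff_zero_eq_constantCoeff_apply, G.const, constantCoeff_C]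
      exact (C.mem_L.mp ha) P⟩
  let S : (n : ℕ) → {F : PowerSeries K // ∀ P, ∀ i < n + 1, C.v P (coeff i (G.Φ P F)) ≤ exp (E P)} :=
    fun n => Nat.rec F₀ (fun n F => nx n F) n
  have hS : ∀ n, S (n + 1) = nx n (S n) := fun n => rfl
  have hst : ∀ n m, ∀ i < n + 1, coeff i (S (n + m)).1 = coeff i (S n).1 := by
    intro n m i hi
    induction m with
    | zero => rfl
    | succ m ih =>
      rw [← add_assoc, hS, hnx _ _ i (by lia), ih]
  let f : PowerSeries K := PowerSeries.mk fun n => coeff n (S n).1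
  have hf : ∀ n, ∀ i < n + 1, coeff i f = coeff i (S n).1 := by
    intro n i hi
    rw [coeff_mk]
    obtain ⟨m, rfl⟩ := Nat.exists_eq_add_of_le (Nat.lt_succ_iff.mp hi)
    exact (hst i m i (by lia)).symm
  have hdvd : ∀ n, ∃ g, f = (S n).1 + X ^ (n + 1) * g := by
    intro n
    have h1 : (X : PowerSeries K) ^ (n + 1) ∣ f - (S n).1 := by
      rw [X_pow_dvd_iff]
      intro m hm
      rw [map_sub, hf n m hm, sub_self]
    obtain ⟨g, hg⟩ := h1
    exact ⟨g, by rw [← hg]; ring⟩
  refine ⟨f, fun P i => ?_, ?_⟩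
  · obtain ⟨g, hg⟩ := hdvd i
    rw [hg, map_add, map_mul, map_pow, G.map_X, map_add, coeff_X_pow_mul', if_neg (by lia), add_zero]
    exact (S i).2 P i (by lia)
  · rw [← coeff_zero_eq_constantCoeff_apply, hf 0 0 (by lia)]
    change coeff 0 (PowerSeries.C a) = a
    simp

end

end K538.Patch
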