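import Groth.Agent.Curves.K538.Patch
import Groth.Agent.FormalA.AdicFin
import Mathlib.RingTheory.AdicCompletion.Completeness
import Mathlib.RingTheory.Nakayama

/-!
# The modules `M E` are free of rank `l(E)`; the base point free pencil trick
-/

set_option autoImplicit false

open WithZero PowerSeries

namespace K538.Patch

open Groth.Agent.Models.FFRR Groth.Agent.Models.FFLen

variable {k K ι : Type*} [Field k] [Field K] [Algebra k K] {C : Crv k K ι} (G : Glue k K ι)

theorem smul_eq (c : PowerSeries k) (f : PowerSeries K) : c • f = algebraMap _ _ c * f := Algebra.smul_def _ _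

theorem constantCoeff_smul' (c : PowerSeries k) (f : PowerSeries K) :
    constantCoeff (c • f) = algebraMap k K (constantCoeff c) * constantCoeff f := by
  rw [smul_eq, map_mul]
  congr 1

theorem alg_X : algebraMap (PowerSeries k) (PowerSeries K) X = X := map_X _

theorem X_smul (f : PowerSeries K) : (X : PowerSeries k) • f = X * f := by
  rw [smul_eq, alg_X]

theorem mem_span_X_smul_top {E : ι →₀ ℤ} {n : ℕ} (f : M C G E) :
    f ∈ ((Ideal.span {(X : PowerSeries k)}) ^ n • ⊤ : Submodule (PowerSeries k) (M C G E)) ↔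
      ∃ g : M C G E, (f : PowerSeries K) = (X : PowerSeries K) ^ n * (g : PowerSeries K) := by
  rw [Ideal.span_singleton_pow, Submodule.ideal_span_singleton_smul, Submodule.mem_smul_pointwise_iff_exists]
  have key : ∀ g : M C G E, (((X : PowerSeries k) ^ n • g : M C G E) : PowerSeries K) =
      (X : PowerSeries K) ^ n * (g : PowerSeries K) := by
    intro g
    rw [Submodule.coe_smul, smul_eq, map_pow, alg_X]
  constructor
  · rintro ⟨g, -, rfl⟩
    exact ⟨g, key g⟩
  · rintro ⟨g, hg⟩
    exact ⟨g, trivial, Subtype.ext ((key g).trans hg.symm)⟩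

instance isHausdorff_M (E : ι →₀ ℤ) : IsHausdorff (Ideal.span {(X : PowerSeries k)}) (M C G E) where
  haus' f hf := by
    have h : ∀ n, (X : PowerSeries K) ^ n ∣ (f : PowerSeries K) := by
      intro n
      have h1 := hf n
      rw [SModEq.zero, mem_span_X_smul_top] at h1
      obtain ⟨g, hg⟩ := h1
      exact ⟨g, hg⟩
    apply Subtype.ext
    ext n
    exact (X_pow_dvd_iff.mp (h (n + 1))) n (by lia)

/-- **`M E` is free of rank `l(E)`.** -/
theorem exists_equiv {E : ι →₀ ℤ} (hE : Good C E) {n : ℕ} (b : Module.Basis (Fin n) k (C.L E)) :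
    Nonempty ((Fin n → PowerSeries k) ≃ₗ[PowerSeries k] M C G E) := by
  classical
  have hl : ∀ j, ∃ f : M C G E, constantCoeff (f : PowerSeries K) = (b j : K) := by
    intro j
    obtain ⟨f, hf, hf'⟩ := exists_lift G hE (b j).2
    exact ⟨⟨f, hf⟩, hf'⟩
  choose f hf using hl
  let φ : (Fin n → PowerSeries k) →ₗ[PowerSeries k] M C G E := Fintype.linearCombination (PowerSeries k) f
  have hφ : ∀ c, (φ c : PowerSeries K) = ∑ j, c j • (f j : PowerSeries K) := by
    intro c
    simp only [φ, Fintype.linearCombination_apply, Submodule.coe_sum, Submodule.coe_smul]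
  have hφc : ∀ c, constantCoeff (φ c : PowerSeries K) = ((∑ j, constantCoeff (c j) • b j : C.L E) : K) := by
    intro c
    rw [hφ, map_sum, Submodule.coe_sum]
    refine Finset.sum_congr rfl fun j _ => ?_
    rw [constantCoeff_smul', hf, Submodule.coe_smul, Algebra.smul_def]
  have hinj : Function.Injective φ := by
    rw [injective_iff_map_eq_zero]
    intro c hc
    have key : ∀ m : ℕ, ∀ j, (X : PowerSeries k) ^ m ∣ c j := by
      intro m
      induction m with
      | zero => intro j; simp
      | succ m ih =>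
        choose c' hc' using ih
        have h1 : (φ c' : PowerSeries K) = 0 := by
          have h2 : (X : PowerSeries K) ^ m * (φ c' : PowerSeries K) = 0 := by
            have h3 : c = (X : PowerSeries k) ^ m • c' := by
              funext j
              rw [hc' j]
              rfl
            have h4 := congrArg (fun t : M C G E => (t : PowerSeries K)) hc
            simp only [h3, map_smul, Submodule.coe_smul, Submodule.coe_zero] at h4
            rw [smul_eq, map_pow, alg_X] at h4
            exact h4
          exact (mul_eq_zero.mp h2).resolve_left (pow_ne_zero _ X_ne_zero)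
        have h2 := hφc c'
        rw [h1, map_zero] at h2
        have h3 : (∑ j, constantCoeff (c' j) • b j : C.L E) = 0 := Subtype.ext h2.symm
        have h4 := Fintype.linearIndependent_iff.mp b.linearIndependent _ h3
        intro j
        rw [hc' j, pow_succ]
        exact mul_dvd_mul_left _ (X_dvd_iff.mpr (h4 j))
    funext j
    ext m
    exact X_pow_dvd_iff.mp (key (m + 1) j) m (by lia)
  have hsurj : Function.Surjective φ := by
    apply surjective_of_mkQ_comp_surjective (I := Ideal.span {(X : PowerSeries k)})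
    intro y
    obtain ⟨y, rfl⟩ := Submodule.mkQ_surjective _ y
    let z : C.L E := ⟨_, const_mem_L C G y.2⟩
    refine ⟨fun j => PowerSeries.C (b.repr z j), ?_⟩
    rw [LinearMap.comp_apply, ← sub_eq_zero, ← map_sub]
    change Submodule.Quotient.mk _ = _
    rw [Submodule.Quotient.mk_eq_zero, ← pow_one (Ideal.span {(X : PowerSeries k)}), mem_span_X_smul_top]
    have h1 : constantCoeff ((φ (fun j => PowerSeries.C (b.repr z j)) - y : M C G E) : PowerSeries K) = 0 := by
      rw [Submodule.coe_sub, map_sub, hφc]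
      simp only [constantCoeff_C]
      rw [b.sum_repr]
      exact sub_self _
    obtain ⟨g, hg, hg'⟩ := exists_of_const_eq_zero C G (Submodule.coe_mem _) h1
    exact ⟨⟨g, hg⟩, by rw [pow_one]; exact hg'⟩
  exact ⟨LinearEquiv.ofBijective φ ⟨hinj, hsurj⟩⟩

section rank

variable [Nonempty ι] (hC : C.Fin)
include hC

theorem exists_equiv' {E : ι →₀ ℤ} (hE : Good C E) :
    Nonempty ((Fin (C.l E) → PowerSeries k) ≃ₗ[PowerSeries k] M C G E) := by
  have h1 := hC.finite_L E
  exact exists_equiv G hE (Module.finBasisOfFinrankEq k (C.L E) (hC.finrank_L E))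

theorem finite_M {E : ι →₀ ℤ} (hE : Good C E) : Module.Finite (PowerSeries k) (M C G E) := by
  obtain ⟨e⟩ := exists_equiv' G hC hE
  exact Module.Finite.equiv e

theorem free_M {E : ι →₀ ℤ} (hE : Good C E) : Module.Free (PowerSeries k) (M C G E) := by
  obtain ⟨e⟩ := exists_equiv' G hC hE
  exact Module.Free.of_equiv e

theorem finrank_M {E : ι →₀ ℤ} (hE : Good C E) : Module.finrank (PowerSeries k) (M C G E) = C.l E := by
  obtain ⟨e⟩ := exists_equiv' G hC hE
  rw [← e.finrank_eq]
  simp

end rank

/-- The pencil trick in the function field. -/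
theorem L_succ {E : ι →₀ ℤ} (hE : 0 ≤ E) {w : K} (hw : ∀ P, C.v P w ≤ exp (E P))
    (hw' : ∀ P, E P ≠ 0 → C.v P w = exp (E P)) {m : ℕ} (hm : Good C (m • E)) {g : K}
    (hg : g ∈ C.L ((m + 2) • E)) : ∃ a ∈ C.L ((m + 1) • E), ∃ b ∈ C.L ((m + 1) • E), g = a + w * b := by
  classical
  let α : ι → K := fun P => if E P = 0 then 0 else g / w
  obtain ⟨b, hb⟩ := hm.exists (α := α) (by
    refine (E.support.finite_toSet).subset fun P hP => ?_
    simp only [Finset.mem_coe, Finsupp.mem_support_iff]
    intro h
    apply hP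
    simp [α, h])
  have hEP : ∀ P, 0 ≤ E P := fun P => hE P
  have hbL : b ∈ C.L ((m + 1) • E) := by
    rw [C.mem_L]
    intro P
    have h1 := hb P
    have h2 := (C.mem_L.mp hg) P
    have h0 := hEP P
    have e1 : ((m + 1) • E) P = (m + 1) * E P := by simp
    have e2 : ((m + 2) • E) P = (m + 2) * E P := by simp
    have e3 : (m • E) P = m * E P := by simp
    rw [e1]
    rw [e2] at h2
    rw [e3] at h1
    have h3 : C.v P b ≤ max (C.v P (b - α P)) (C.v P (α P)) := by
      conv_lhs => rw [← sub_add_cancel b (α P)]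
      exact (C.v P).map_add _ _
    refine h3.trans (max_le (h1.trans (exp_le_exp.mpr (by nlinarith))) ?_)
    by_cases h : E P = 0
    · simp [α, h]
    · simp only [α, if_neg h]
      rw [map_div₀, hw' P h]
      rw [div_le_iff₀ (by simp), ← exp_add]
      exact h2.trans (exp_le_exp.mpr (by nlinarith))
  refine ⟨g - w * b, ?_, b, hbL, by ring⟩
  rw [C.mem_L]
  intro P
  have h0 := hEP P
  have h1 := hb P
  have h2 := (C.mem_L.mp hg) P
  have h4 := (C.mem_L.mp hbL) P
  have e1 : ((m + 1) • E) P = (m + 1) * E P := by simp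
  have e2 : ((m + 2) • E) P = (m + 2) * E P := by simp
  have e3 : (m • E) P = m * E P := by simp
  rw [e1] at h4 ⊢
  rw [e2] at h2
  rw [e3] at h1
  by_cases h : E P = 0
  · rw [h, mul_zero] at h2 h4 ⊢
    refine ((C.v P).map_sub _ _).trans (max_le h2 ?_)
    rw [map_mul]
    have h5 := hw P
    rw [h] at h5
    calc C.v P w * C.v P b ≤ exp 0 * exp 0 := mul_le_mul' h5 h4
      _ = exp 0 := by rw [← exp_add, add_zero]
  · have hw0 : w ≠ 0 := by
      rintro rfl
      have := hw' P h
      rw [map_zero] at this
      exact exp_ne_zero this.symm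
    simp only [α, if_neg h] at h1
    have h5 : g - w * b = - (w * (b - g / w)) := by
      field_simp
      ring
    rw [h5, Valuation.map_neg, map_mul, hw' P h]
    calc exp (E P) * C.v P (b - g / w) ≤ exp (E P) * exp (m * E P) := mul_le_mul' le_rfl h1
      _ = exp ((m + 1) * E P) := by rw [← exp_add]; congr 1; ring

/-- The pencil trick for the modules `M`. -/
theorem M_succ [Nonempty ι] (hC : C.Fin) {E : ι →₀ ℤ} (hE : 0 ≤ E) {w : PowerSeries K} (hw : w ∈ M C G E)
    (hw' : ∀ P, E P ≠ 0 → C.v P (constantCoeff w) = exp (E P)) {m : ℕ} (hm : Good C (m • E))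
    {g : PowerSeries K} (hg : g ∈ M C G ((m + 2) • E)) :
    ∃ a ∈ M C G ((m + 1) • E), ∃ b ∈ M C G ((m + 1) • E), g = a + w * b := by
  have hle : ∀ a b : ℕ, a ≤ b → a • E ≤ b • E := by
    intro a b hab P
    have h0 : 0 ≤ E P := hE P
    simp only [Finsupp.coe_smul, Pi.smul_apply, nsmul_eq_mul]
    have : (a : ℤ) ≤ b := by exact_mod_cast hab
    nlinarith
  have hm1 : Good C ((m + 1) • E) := hm.mono (hle _ _ (by lia))
  have hm2 : Good C ((m + 2) • E) := hm.mono (hle _ _ (by lia))
  let N₁ : Submodule (PowerSeries k) (PowerSeries K) := M C G ((m + 1) • E)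
  let N₂ : Submodule (PowerSeries k) (PowerSeries K) := M C G ((m + 2) • E)
  let N : Submodule (PowerSeries k) (PowerSeries K) := N₁ ⊔ N₁.map (LinearMap.mulLeft (PowerSeries k) w)
  have hfin : N₂.FG := by
    have := finite_M G hC hm2
    exact Module.Finite.iff_fg.mp this
  have key : N₂ ≤ N := by
    apply Submodule.le_of_le_smul_of_le_jacobson_bot (I := Ideal.span {(X : PowerSeries k)}) hfin
    · rw [IsLocalRing.jacobson_eq_maximalIdeal ⊥ bot_ne_top, Ideal.span_singleton_le_iff_mem,
        IsLocalRing.mem_maximalIdeal, mem_nonunits_iff, PowerSeries.isUnit_iff_constantCoeff]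
      simp
    · intro f hf
      obtain ⟨a, ha, b, hb, hab⟩ := L_succ (C := C) (w := constantCoeff w) hE
        (C.mem_L.mp (const_mem_L C G hw)) hw' hm (const_mem_L C G hf)
      obtain ⟨a', ha', ha''⟩ := exists_lift G hm1 ha
      obtain ⟨b', hb', hb''⟩ := exists_lift G hm1 hb
      have h1 : a' + w * b' ∈ N₂ := by
        refine N₂.add_mem (M_mono C G (hle _ _ (by lia)) ha') ?_
        have := mul_mem_M C G hw hb'
        rwa [← succ_nsmul' E (m + 1)] at this
      have h2 : constantCoeff (f - (a' + w * b')) = 0 := by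
        rw [map_sub, map_add, map_mul, ha'', hb'', hab, sub_self]
      obtain ⟨g, hg, hg'⟩ := exists_of_const_eq_zero C G (N₂.sub_mem hf h1) h2
      have h3 : f = (a' + w * b') + (X : PowerSeries k) • g := by
        rw [X_smul, ← hg']
        ring
      rw [h3]
      refine Submodule.add_mem_sup ?_ (Submodule.smul_mem_smul (Ideal.mem_span_singleton_self _) hg)
      exact Submodule.add_mem_sup ha' ⟨b', hb', rfl⟩
  obtain ⟨a, ha, _, ⟨b, hb, rfl⟩, h⟩ := Submodule.mem_sup.mp (key hg)
  exact ⟨a, ha, b, hb, h.symm⟩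

end K538.Patch
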