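import Groth.Agent.Curves.K538.PatchRing
import Mathlib.RingTheory.Polynomial.ScaleRoots

/-!
# The second chart ring of the patched curve is integrally closed
-/

set_option autoImplicit false

open WithZero PowerSeries

namespace K538.Patch

open Groth.Agent.Models.FFRR Groth.Agent.Models.FFLen K538.ValSer

section general

/-- Integrality over a subring of a localization. -/
theorem exists_isIntegral_pow_mul {Ω : Type*} [CommRing Ω] (A B : Subring Ω) (w : Ω) (hw : w ∈ A)
    (h : ∀ b ∈ B, ∃ n : ℕ, w ^ n * b ∈ A) {g : Ω} (hg : IsIntegral B g) :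
    ∃ N : ℕ, IsIntegral A (w ^ N * g) := by
  classical
  obtain ⟨p, hp, hpg⟩ := hg
  choose n hn using h
  let N : ℕ := p.support.sup fun i => n (p.coeff i : Ω) (p.coeff i).2
  have hN : ∀ i, w ^ N * (p.coeff i : Ω) ∈ A := by
    intro i
    by_cases hi : i ∈ p.support
    · have h1 : n (p.coeff i : Ω) (p.coeff i).2 ≤ N :=
        Finset.le_sup (f := fun i => n (p.coeff i : Ω) (p.coeff i).2) hi
      obtain ⟨m, hm⟩ := Nat.exists_eq_add_of_le h1
      rw [hm, add_comm, pow_add, mul_assoc]
      exact A.mul_mem (A.pow_mem hw _) (hn _ _)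
    · rw [Polynomial.notMem_support_iff.mp hi]
      simp
  refine ⟨N, ?_⟩
  let q : Polynomial Ω := (p.map B.subtype).scaleRoots (w ^ N)
  have hq : q.Monic := (Polynomial.monic_scaleRoots_iff _).mpr (hp.map _)
  have hqg : q.eval (w ^ N * g) = 0 := by
    have h1 : (p.map B.subtype).eval g = 0 := by
      rw [Polynomial.eval_map]
      exact hpg
    have h2 := Polynomial.scaleRoots_eval₂_mul (p := p.map B.subtype) (RingHom.id Ω) g (w ^ N)
    simp only [RingHom.id_apply, Polynomial.eval₂_id] at h2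
    rw [h2, h1, mul_zero]
  have hl : q ∈ Polynomial.lifts A.subtype := by
    rw [Polynomial.lifts_iff_coeff_lifts]
    intro i
    rw [Polynomial.coeff_scaleRoots, Polynomial.coeff_map]
    rcases lt_or_ge i (p.map B.subtype).natDegree with hi | hi
    · obtain ⟨m, hm⟩ := Nat.exists_eq_add_of_lt hi
      have h3 : (p.map B.subtype).natDegree - i = m + 1 := by lia
      rw [h3]
      have h4 : (B.subtype (p.coeff i)) * (w ^ N) ^ (m + 1) = (w ^ N) ^ m * (w ^ N * (p.coeff i : Ω)) := by
        rw [pow_succ]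
        change (p.coeff i : Ω) * _ = _
        ring
      rw [h4]
      exact ⟨⟨_, A.mul_mem (A.pow_mem (A.pow_mem hw _) _) (hN i)⟩, rfl⟩
    · rcases hi.lt_or_eq with hi | hi
      · have h5 : p.coeff i = 0 := by
          have h6 := Polynomial.coeff_eq_zero_of_natDegree_lt hi
          rw [Polynomial.coeff_map] at h6
          exact Subtype.ext h6
        rw [h5, map_zero, zero_mul]
        exact ⟨0, map_zero _⟩
      · have h5 : B.subtype (p.coeff i) = 1 := by
          have h6 := (hp.map B.subtype).coeff_natDegree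
          rw [hi, Polynomial.coeff_map] at h6
          exact h6
        rw [h5, ← hi, Nat.sub_self, pow_zero, mul_one]
        exact ⟨1, map_one _⟩
  obtain ⟨r, hr, -, hrm⟩ := Polynomial.lifts_and_natDegree_eq_and_monic hl hq
  refine ⟨r, hrm, ?_⟩
  change Polynomial.eval₂ A.subtype _ r = 0
  rw [Polynomial.eval₂_eq_eval_map, hr, hqg]

end general

section val

variable {K : Type*} [Field K] {v : Valuation K ℤᵐ⁰}

theorem mem_BO_of_mul {u g : PowerSeries K} (hu : u ∈ BO v) (hu0 : v (constantCoeff u) = 1)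
    (h : u * g ∈ BO v) : g ∈ BO v := by
  intro i
  rw [exp_zero]
  induction i using Nat.strong_induction_on with
  | _ i ih =>
    have h1 := h i
    rw [coeff_mul, exp_zero] at h1
    have h0 : (0, i) ∈ Finset.antidiagonal i := by simp
    rw [← Finset.add_sum_erase _ _ h0] at h1
    have h2 : v (∑ x ∈ (Finset.antidiagonal i).erase (0, i), coeff x.1 u * coeff x.2 g) ≤ 1 := by
      refine v.map_sum_le fun x hx => ?_
      rw [Finset.mem_erase, Finset.mem_antidiagonal] at hx
      have h3 : x.2 < i := by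
        rcases Nat.eq_zero_or_pos x.1 with h4 | h4
        · exfalso
          apply hx.1
          ext
          · exact h4
          · have := hx.2
            simp only
            lia
        · have := hx.2
          lia
      rw [map_mul]
      have h5 := hu x.1
      rw [exp_zero] at h5
      exact mul_le_one' h5 (ih _ h3)
    have h3 : v (coeff 0 u * coeff i g) ≤ 1 := by
      have h4 : coeff 0 u * coeff i g = (coeff 0 u * coeff i g +
        ∑ x ∈ (Finset.antidiagonal i).erase (0, i), coeff x.1 u * coeff x.2 g) -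
        ∑ x ∈ (Finset.antidiagonal i).erase (0, i), coeff x.1 u * coeff x.2 g := by ring
      rw [h4]
      exact (v.map_sub _ _).trans (max_le h1 h2)
    rwa [map_mul, coeff_zero_eq_constantCoeff_apply, hu0, one_mul] at h3

theorem mem_BO_of_pow_mul {u g : PowerSeries K} (hu : u ∈ BO v) (hu0 : v (constantCoeff u) = 1) (n : ℕ)
    (h : u ^ n * g ∈ BO v) : g ∈ BO v := by
  induction n generalizing g with
  | zero => simpa using h
  | succ n ih =>
    rw [pow_succ, mul_assoc] at h
    exact mem_BO_of_mul hu hu0 (ih h)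

end val

variable {k K ι : Type*} [Field k] [Field K] [Algebra k K] {C : Crv k K ι} {G : Glue k K ι}

/-- Elements of the second chart ring are integral at the poles of `w`. -/
theorem Φ_A1_mem_BO {E : ι →₀ ℤ} {w : PowerSeries K} (hw : w ∈ M C G E) {P : ι}
    (hwP : C.v P (constantCoeff w) = exp (E P)) {f : PowerSeries K} {n : ℕ}
    (hf : w ^ n * f ∈ M C G (n • E)) : G.Φ P f ∈ BO (C.v P) := by
  obtain ⟨c, hc⟩ := C.exists_v_eq P (-(E P))
  have hc' : C.v P (c ^ n) = exp (-((n • E) P)) := by
    rw [map_pow, hc, ← exp_nsmul]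
    congr 1
    simp
  have hu : PowerSeries.C c * G.Φ P w ∈ BO (C.v P) := by
    rw [mem_BO, le_C_mul hc, zero_add]
    exact hw P
  have hu0 : C.v P (constantCoeff (PowerSeries.C c * G.Φ P w)) = 1 := by
    rw [map_mul, constantCoeff_C, G.const, map_mul, hc, hwP, ← exp_add, neg_add_cancel, exp_zero]
  refine mem_BO_of_pow_mul hu hu0 n ?_
  have h1 : (PowerSeries.C c * G.Φ P w) ^ n * G.Φ P f = PowerSeries.C (c ^ n) * G.Φ P (w ^ n * f) := by
    rw [map_pow, map_mul, map_pow]
    ring
  rw [h1, mem_BO, le_C_mul hc', zero_add]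
  exact hf P

/-- **The second chart ring is integrally closed.** -/
theorem mem_A1_of_integral {E : ι →₀ ℤ} (hE : 0 ≤ E) {w : PowerSeries K} (hw : w ∈ M C G E)
    (hw' : ∀ P, E P ≠ 0 → C.v P (constantCoeff w) = exp (E P)) (hw0 : w ≠ 0) {a b g : PowerSeries K}
    (ha : a ∈ A1 C G E hw) (hb : b ∈ A1 C G E hw) (ha0 : a ≠ 0) (h : b = a * g)
    (hg : IsIntegral (A1 C G E hw).toSubring g) : g ∈ A1 C G E hw := by
  have hwA : w ∈ A0 C G E hE := ⟨1, by rwa [one_nsmul]⟩
  obtain ⟨N, hN⟩ := exists_isIntegral_pow_mul (A0 C G E hE).toSubring (A1 C G E hw).toSubring w hwA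
    (by
      rintro f ⟨n, hf⟩
      exact ⟨n, n, hf⟩) hg
  have ha' := ha
  have hb' := hb
  obtain ⟨na, ha⟩ := ha
  obtain ⟨nb, hb⟩ := hb
  -- `w ^ N * g ∈ A0`
  have h1 : w ^ N * g ∈ A0 C G E hE := by
    have haA : w ^ (na + nb) * a ∈ A0 C G E hE := by
      rw [add_comm, pow_add, mul_assoc]
      exact (A0 C G E hE).mul_mem ((A0 C G E hE).pow_mem hwA _) ⟨na, ha⟩
    have hbA : w ^ (na + N) * (w ^ nb * b) ∈ A0 C G E hE :=
      (A0 C G E hE).mul_mem ((A0 C G E hE).pow_mem hwA _) ⟨nb, hb⟩
    refine mem_A0_of_integral hE haA hbA (mul_ne_zero (pow_ne_zero _ hw0) ha0) ?_ hN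
    rw [h]
    ring
  obtain ⟨j, hj⟩ := h1
  refine ⟨N, fun P => ?_⟩
  by_cases hP : E P = 0
  · refine (hj P).mono ?_
    simp [hP]
  · obtain ⟨π, hπ⟩ := C.exists_unif P
    have := isIntegrallyClosed_BO hπ
    have h2 : G.Φ P g ∈ BO (C.v P) := by
      refine mem_of_integral (BO (C.v P)) (Φ_A1_mem_BO hw (hw' P hP) ha) (Φ_A1_mem_BO hw (hw' P hP) hb)
        (Φ_ne_zero P ha0) ?_ (isIntegral_map (G.Φ P) _ _ ?_ hg)
      · rw [h, map_mul]
      · rintro f ⟨n, hf⟩
        exact Φ_A1_mem_BO hw (hw' P hP) hf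
    rw [map_mul]
    have h3 := (pow_mem_M hw N) P
    have h4 := h3.mul h2
    rwa [add_zero] at h4

end K538.Patch
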