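import Groth.Agent.Curves.K538.Patch
import Mathlib.RingTheory.DiscreteValuationRing.Basic
import Mathlib.RingTheory.Localization.Integral
import Mathlib.RingTheory.IntegralClosure.IntegrallyClosed

/-!
# Power series with coefficients bounded at a discrete valuation are integrally closed
-/

set_option autoImplicit false

open WithZero PowerSeries

namespace K538.ValSer

open K538.Patch Valuation

section dvr

variable {K : Type*} [Field K] {v : Valuation K ℤᵐ⁰}

theorem eq_exp {x : K} (hx : x ≠ 0) : ∃ n : ℤ, v x = exp n :=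
  ⟨log (v x), (exp_log ((Valuation.ne_zero_iff v).mpr hx)).symm⟩

theorem dvr {π : K} (hπ : v π = exp (-1 : ℤ)) : IsDiscreteValuationRing v.valuationSubring := by
  have hπ0 : π ≠ 0 := by
    rintro rfl
    rw [map_zero] at hπ
    exact exp_ne_zero hπ.symm
  have hπ1 : v π ≤ 1 := by
    rw [hπ, ← exp_zero, exp_le_exp]
    lia
  have hunit : ∀ x : v.valuationSubring, IsUnit x ↔ v (x : K) = 1 := by
    intro x
    exact (valuationSubring.integers v).isUnit_iff_valuation_eq_one
  let p : v.valuationSubring := ⟨π, hπ1⟩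
  apply IsDiscreteValuationRing.ofHasUnitMulPowIrreducibleFactorization
  refine ⟨p, ⟨?_, ?_⟩, ?_⟩
  · rw [hunit]
    change ¬ v π = 1
    rw [hπ, ← exp_zero]
    intro h
    have := exp_injective h
    lia
  · intro a b hab
    have h1 : v (a : K) * v (b : K) = exp (-1 : ℤ) := by
      rw [← map_mul, ← hπ]
      congr 1
      exact (congrArg Subtype.val hab).symm
    have ha : v (a : K) ≤ 1 := a.2
    have hb : v (b : K) ≤ 1 := b.2
    have ha0 : (a : K) ≠ 0 := by
      intro h
      rw [h, map_zero, zero_mul] at h1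
      exact exp_ne_zero h1.symm
    have hb0 : (b : K) ≠ 0 := by
      intro h
      rw [h, map_zero, mul_zero] at h1
      exact exp_ne_zero h1.symm
    rw [hunit, hunit]
    obtain ⟨m, hm⟩ := eq_exp (v := v) ha0
    obtain ⟨n, hn⟩ := eq_exp (v := v) hb0
    rw [hm, hn, ← exp_add] at h1
    have h2 := exp_injective h1
    rw [hm, ← exp_zero, exp_le_exp] at ha
    rw [hn, ← exp_zero, exp_le_exp] at hb
    rw [hm, hn]
    rcases eq_or_ne m 0 with rfl | h
    · left; exact exp_zero
    · right
      have : n = 0 := by lia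
      rw [this, exp_zero]
  · intro x hx
    have hx0 : (x : K) ≠ 0 := fun h => hx (Subtype.ext h)
    obtain ⟨n, hn⟩ := eq_exp (v := v) hx0
    have hx1 : v (x : K) ≤ 1 := x.2
    rw [hn, ← exp_zero, exp_le_exp] at hx1
    obtain ⟨m, rfl⟩ : ∃ m : ℕ, n = -m := ⟨n.natAbs, by lia⟩
    have hu : v ((x : K) / π ^ m) = 1 := by
      rw [map_div₀, map_pow, hπ, hn, ← exp_nsmul]
      have : (m • (-1 : ℤ)) = -m := by simp
      rw [this]
      exact div_self exp_ne_zero
    let u : v.valuationSubring := ⟨(x : K) / π ^ m, hu.le⟩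
    have hu' : IsUnit u := (hunit u).mpr hu
    refine ⟨m, hu'.unit, ?_⟩
    apply Subtype.ext
    change π ^ m * ((x : K) / π ^ m) = x
    field_simp

end dvr

section rings

variable {K : Type*} [Field K] (v : Valuation K ℤᵐ⁰)

/-- Power series with integral coefficients. -/
def BO : Subring (PowerSeries K) where
  carrier := {f | Le v 0 f}
  mul_mem' hf hg := by
    have := Le.mul hf hg
    rwa [add_zero] at this
  one_mem' := Le.one
  add_mem' hf hg := Le.add hf hg
  zero_mem' := Le.zero _
  neg_mem' hf := Le.neg hf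

/-- Power series with bounded coefficients. -/
def BB : Subring (PowerSeries K) where
  carrier := {f | ∃ n : ℕ, Le v n f}
  mul_mem' := by
    rintro f g ⟨m, hf⟩ ⟨n, hg⟩
    exact ⟨m + n, by push_cast; exact Le.mul hf hg⟩
  one_mem' := ⟨0, Le.one⟩
  add_mem' := by
    rintro f g ⟨m, hf⟩ ⟨n, hg⟩
    exact ⟨m + n, Le.add (hf.mono (by push_cast; lia)) (hg.mono (by push_cast; lia))⟩
  zero_mem' := ⟨0, Le.zero _⟩
  neg_mem' := by
    rintro f ⟨m, hf⟩
    exact ⟨m, Le.neg hf⟩

variable {v}

theorem mem_BO {f : PowerSeries K} : f ∈ BO v ↔ Le v 0 f := Iff.rfl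

theorem mem_BB {f : PowerSeries K} : f ∈ BB v ↔ ∃ n : ℕ, Le v n f := Iff.rfl

theorem BO_le_BB : BO v ≤ BB v := fun _ hf => ⟨0, hf⟩

theorem isIntegrallyClosed_BO {π : K} (hπ : v π = exp (-1 : ℤ)) : IsIntegrallyClosed (BO v) := by
  have := dvr hπ
  let g : PowerSeries v.valuationSubring →+* PowerSeries K := PowerSeries.map v.valuationSubring.subtype
  have hg : ∀ f, g f ∈ BO v := by
    intro f i
    change v (coeff i (PowerSeries.map v.valuationSubring.subtype f)) ≤ exp 0
    rw [coeff_map, exp_zero]
    exact (coeff i f).2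
  let e : PowerSeries v.valuationSubring →+* BO v := g.codRestrict (BO v) hg
  have he : Function.Bijective e := by
    constructor
    · intro a b hab
      have h1 : g a = g b := congrArg Subtype.val hab
      exact PowerSeries.map_injective _ Subtype.val_injective h1
    · rintro ⟨f, hf⟩
      refine ⟨PowerSeries.mk fun i => ⟨coeff i f, ?_⟩, ?_⟩
      · have := hf i
        rwa [exp_zero] at this
      · apply Subtype.ext
        change g _ = f
        ext i
        change coeff i (PowerSeries.map v.valuationSubring.subtype _) = _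
        rw [coeff_map, coeff_mk]
        rfl
  exact IsIntegrallyClosed.of_equiv (RingEquiv.ofBijective e he)

theorem le_C_mul {π : K} {n : ℤ} (hπ : v π = exp (-n)) {m : ℤ} {f : PowerSeries K} :
    Le v m (PowerSeries.C π * f) ↔ Le v (m + n) f := by
  unfold Le
  simp only [coeff_C_mul, map_mul, hπ]
  refine forall_congr' fun i => ?_
  constructor
  · intro h
    have h1 := mul_le_mul' (le_refl (exp n : ℤᵐ⁰)) h
    rw [← mul_assoc, ← exp_add, ← exp_add, add_neg_cancel, exp_zero, one_mul, add_comm] at h1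
    exact h1
  · intro h
    have h1 := mul_le_mul' (le_refl (exp (-n) : ℤᵐ⁰)) h
    rw [← exp_add] at h1
    convert h1 using 2
    ring

theorem isIntegrallyClosed_BB {π : K} (hπ : v π = exp (-1 : ℤ)) : IsIntegrallyClosed (BB v) := by
  have h1 := isIntegrallyClosed_BO hπ
  have hπ0 : π ≠ 0 := by
    rintro rfl
    rw [map_zero] at hπ
    exact exp_ne_zero hπ.symm
  have hle : ∀ n : ℕ, v (π ^ n) = exp (-(n : ℤ)) := by
    intro n
    rw [map_pow, hπ, ← exp_nsmul]
    congr 1
    simp
  let _ : Algebra (BO v) (BB v) := (Subring.inclusion BO_le_BB).toAlgebra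
  have hinc : ∀ f : BO v, ((algebraMap (BO v) (BB v) f : BB v) : PowerSeries K) = f := fun f => rfl
  let p : BO v := ⟨PowerSeries.C π, by
    rw [mem_BO]
    intro i
    rw [coeff_C]
    split_ifs
    · rw [hπ, exp_le_exp]; lia
    · rw [map_zero]; exact zero_le⟩
  have hp0 : p ≠ 0 := by
    intro h
    have h2 : (PowerSeries.C π : PowerSeries K) = 0 := congrArg Subtype.val h
    apply hπ0
    have h3 := congrArg constantCoeff h2
    simpa using h3
  have hpn : ∀ n : ℕ, ((p ^ n : BO v) : PowerSeries K) = PowerSeries.C (π ^ n) := by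
    intro n
    rw [map_pow]
    rfl
  have hloc : IsLocalization (Submonoid.powers p) (BB v) := by
    refine ⟨⟨?_, ?_, ?_⟩⟩
    · rintro ⟨_, n, rfl⟩
      have hinv : (PowerSeries.C ((π ^ n)⁻¹) : PowerSeries K) ∈ BB v := by
        refine ⟨n, fun i => ?_⟩
        rw [coeff_C]
        split_ifs
        · rw [map_inv₀, hle, ← exp_neg, neg_neg]
        · rw [map_zero]; exact zero_le
      refine IsUnit.of_mul_eq_one ⟨_, hinv⟩ ?_
      apply Subtype.ext
      change ((p ^ n : BO v) : PowerSeries K) * PowerSeries.C ((π ^ n)⁻¹) = 1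
      rw [hpn, ← map_mul, mul_inv_cancel₀ (pow_ne_zero _ hπ0), map_one]
    · rintro ⟨f, n, hf⟩
      have h2 : PowerSeries.C (π ^ n) * f ∈ BO v := by
        rw [mem_BO, le_C_mul (hle n), zero_add]
        exact hf
      refine ⟨⟨⟨_, h2⟩, ⟨p ^ n, n, rfl⟩⟩, ?_⟩
      apply Subtype.ext
      change f * ((p ^ n : BO v) : PowerSeries K) = _
      rw [hpn, mul_comm]
      rfl
    · intro a b hab
      refine ⟨1, ?_⟩
      have h2 : a = b := Subtype.ext (congrArg (fun t : BB v => (t : PowerSeries K)) hab)
      rw [h2]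
  exact isIntegrallyClosed_of_isLocalization (BB v) (Submonoid.powers p)
    (powers_le_nonZeroDivisors_of_noZeroDivisors hp0)

end rings

/-- An element of an overdomain which is integral over an integrally closed subring and lies in its fraction
field lies in the subring. -/
theorem mem_of_integral {Ω : Type*} [CommRing Ω] [IsDomain Ω] (B : Subring Ω) [IsIntegrallyClosed B] {a b y : Ω}
    (ha : a ∈ B) (hb : b ∈ B) (ha0 : a ≠ 0) (h : b = a * y) (hy : IsIntegral B y) : y ∈ B := by
  let F := FractionRing B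
  let Ω' := FractionRing Ω
  have hinj : Function.Injective (algebraMap B Ω') :=
    (IsFractionRing.injective Ω Ω').comp Subtype.val_injective
  let θ : F →+* Ω' := IsFractionRing.lift (A := B) (g := algebraMap B Ω') hinj
  have hθ : ∀ c : B, θ (algebraMap B F c) = algebraMap Ω Ω' c := fun c =>
    (IsFractionRing.lift_algebraMap hinj c)
  let z : F := algebraMap B F ⟨b, hb⟩ / algebraMap B F ⟨a, ha⟩
  have hz : θ z = algebraMap Ω Ω' y := by
    rw [map_div₀, hθ, hθ]
    have : algebraMap Ω Ω' a ≠ 0 := fun h0 => ha0 ((map_eq_zero_iff _ (IsFractionRing.injective Ω Ω')).mp h0)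
    rw [div_eq_iff this, ← map_mul, mul_comm y a]
    exact congrArg _ h
  have hint : IsIntegral B z := by
    obtain ⟨p, hp, hp'⟩ := hy
    refine ⟨p, hp, ?_⟩
    apply θ.injective
    rw [map_zero, Polynomial.hom_eval₂, hz]
    have h1 : θ.comp (algebraMap B F) = (algebraMap Ω Ω').comp (algebraMap B Ω) := RingHom.ext hθ
    rw [h1, ← Polynomial.hom_eval₂, hp', map_zero]
  obtain ⟨c, hc⟩ := (isIntegrallyClosed_iff F).mp inferInstance hint
  have h2 : algebraMap Ω Ω' (c : Ω) = algebraMap Ω Ω' y := by
    rw [← hθ, hc, hz]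
  rw [← IsFractionRing.injective Ω Ω' h2]
  exact c.2

end K538.ValSer
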