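import Groth.Agent.Curves.K538.PatchFin
import Groth.Agent.Curves.K538.ValSer
import Mathlib.RingTheory.IntegralClosure.IsIntegral.Basic
import Mathlib.Algebra.Polynomial.AlgebraMap

/-!
# The two chart rings of the patched curve
-/

set_option autoImplicit false

open WithZero PowerSeries

namespace K538.Patch

open Groth.Agent.Models.FFRR Groth.Agent.Models.FFLen K538.ValSer

variable {k K ι : Type*} [Field k] [Field K] [Algebra k K] (C : Crv k K ι) (G : Glue k K ι)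

theorem nsmul_le {E : ι →₀ ℤ} (hE : 0 ≤ E) {a b : ℕ} (hab : a ≤ b) : a • E ≤ b • E := by
  intro P
  have h0 : 0 ≤ E P := hE P
  simp only [Finsupp.coe_smul, Pi.smul_apply, nsmul_eq_mul]
  have : (a : ℤ) ≤ b := by exact_mod_cast hab
  nlinarith

/-- The first chart ring. -/
def A0 (E : ι →₀ ℤ) (hE : 0 ≤ E) : Subalgebra (PowerSeries k) (PowerSeries K) where
  carrier := {f | ∃ n : ℕ, f ∈ M C G (n • E)}
  mul_mem' := by
    rintro f g ⟨m, hf⟩ ⟨n, hg⟩
    exact ⟨m + n, by rw [add_nsmul]; exact mul_mem_M C G hf hg⟩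
  add_mem' := by
    rintro f g ⟨m, hf⟩ ⟨n, hg⟩
    exact ⟨m + n, (M C G _).add_mem (M_mono C G (nsmul_le hE (by lia)) hf)
      (M_mono C G (nsmul_le hE (by lia)) hg)⟩
  algebraMap_mem' c := ⟨0, by
    rw [zero_nsmul, Algebra.algebraMap_eq_smul_one]
    exact (M C G 0).smul_mem c (one_mem_M C G)⟩

variable {C G}

theorem mem_A0 {E : ι →₀ ℤ} {hE : 0 ≤ E} {f : PowerSeries K} : f ∈ A0 C G E hE ↔ ∃ n : ℕ, f ∈ M C G (n • E) := Iff.rfl

theorem pow_mem_M {E : ι →₀ ℤ} {w : PowerSeries K} (hw : w ∈ M C G E) (n : ℕ) : w ^ n ∈ M C G (n • E) := by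
  induction n with
  | zero => rw [pow_zero, zero_nsmul]; exact one_mem_M C G
  | succ n ih =>
    rw [pow_succ, succ_nsmul]
    exact mul_mem_M C G ih hw

variable (C G) in
/-- The second chart ring. -/
def A1 (E : ι →₀ ℤ) {w : PowerSeries K} (hw : w ∈ M C G E) : Subalgebra (PowerSeries k) (PowerSeries K) where
  carrier := {f | ∃ n : ℕ, w ^ n * f ∈ M C G (n • E)}
  mul_mem' := by
    rintro f g ⟨m, hf⟩ ⟨n, hg⟩
    refine ⟨m + n, ?_⟩
    rw [add_nsmul, pow_add, mul_mul_mul_comm]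
    exact mul_mem_M C G hf hg
  add_mem' := by
    rintro f g ⟨m, hf⟩ ⟨n, hg⟩
    refine ⟨m + n, ?_⟩
    rw [mul_add]
    refine (M C G _).add_mem ?_ ?_
    · rw [add_comm m n, add_nsmul, pow_add, mul_assoc]
      exact mul_mem_M C G (pow_mem_M hw n) hf
    · rw [add_nsmul, pow_add, mul_assoc]
      exact mul_mem_M C G (pow_mem_M hw m) hg
  algebraMap_mem' c := ⟨0, by
    rw [zero_nsmul, pow_zero, one_mul, Algebra.algebraMap_eq_smul_one]
    exact (M C G 0).smul_mem c (one_mem_M C G)⟩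

theorem mem_A1 {E : ι →₀ ℤ} {w : PowerSeries K} {hw : w ∈ M C G E} {f : PowerSeries K} :
    f ∈ A1 C G E hw ↔ ∃ n : ℕ, w ^ n * f ∈ M C G (n • E) := Iff.rfl

section gen

variable [Nonempty ι] (hC : C.Fin) {E : ι →₀ ℤ} (hE : 0 ≤ E) {w : PowerSeries K} (hw : w ∈ M C G E)
  (hw' : ∀ P, E P ≠ 0 → C.v P (constantCoeff w) = exp (E P)) {m : ℕ} (hm : Good C (m • E))
include hC hE hw hw' hm

/-- A finite set generating all `M (n E)` over `R[w]`. -/
theorem exists_gen : ∃ s : Finset (PowerSeries K), (∀ x ∈ s, x ∈ M C G ((m + 1) • E)) ∧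
    ∀ (j : ℕ), ∀ f ∈ M C G ((m + 1 + j) • E),
      ∃ c : PowerSeries K → ℕ → PowerSeries k,
        f = ∑ x ∈ s, (∑ i ∈ Finset.range (j + 1), algebraMap _ _ (c x i) * w ^ i) * x := by
  classical
  have hgood : Good C ((m + 1) • E) := hm.mono (nsmul_le hE (by lia))
  have hfin := finite_M G hC hgood
  obtain ⟨s, hs⟩ := Module.Finite.iff_fg.mp hfin
  refine ⟨s, fun x hx => ?_, ?_⟩
  · rw [← hs]
    exact Submodule.subset_span hx
  intro j
  induction j with
  | zero =>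
    intro f hf
    rw [add_zero, ← hs, Submodule.mem_span_finset] at hf
    obtain ⟨c, -, hc⟩ := hf
    refine ⟨fun x _ => c x, ?_⟩
    rw [← hc]
    refine Finset.sum_congr rfl fun x _ => ?_
    rw [Finset.sum_range_one, pow_zero, mul_one, smul_eq]
  | succ j ih =>
    intro f hf
    have hg : Good C ((m + j) • E) := hm.mono (nsmul_le hE (by lia))
    have e1 : m + 1 + (j + 1) = m + j + 2 := by ring
    have e2 : m + 1 + j = m + j + 1 := by ring
    rw [e1] at hf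
    obtain ⟨a, ha, b, hb, rfl⟩ := M_succ G hC hE hw hw' hg hf
    rw [← e2] at ha hb
    obtain ⟨c, hc⟩ := ih a ha
    obtain ⟨d, hd⟩ := ih b hb
    refine ⟨fun x i => (if i < j + 1 then c x i else 0) + (if i = 0 then 0 else d x (i - 1)), ?_⟩
    rw [hc, hd, Finset.mul_sum, ← Finset.sum_add_distrib]
    refine Finset.sum_congr rfl fun x _ => ?_
    simp only [map_add, add_mul, Finset.sum_add_distrib]
    congr 1
    · congr 1
      rw [Finset.sum_range_succ _ (j + 1), if_neg (by lia), map_zero, zero_mul, add_zero]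
      refine Finset.sum_congr rfl fun i hi => ?_
      rw [if_pos (Finset.mem_range.mp hi)]
    · rw [← mul_assoc, Finset.mul_sum]
      congr 1
      conv_rhs => rw [Finset.sum_range_succ']
      rw [if_pos rfl, map_zero, zero_mul, add_zero]
      refine Finset.sum_congr rfl fun i _ => ?_
      rw [if_neg (by lia), Nat.add_sub_cancel, pow_succ]
      ring

theorem A0_gen : ∃ s : Finset (PowerSeries K), (∀ x ∈ s, x ∈ A0 C G E hE) ∧
    ∀ f ∈ A0 C G E hE, ∃ p : PowerSeries K → Polynomial (PowerSeries k),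
      f = ∑ x ∈ s, Polynomial.aeval w (p x) * x := by
  obtain ⟨s, hs, h⟩ := exists_gen hC hE hw hw' hm
  refine ⟨s, fun x hx => ⟨_, hs x hx⟩, ?_⟩
  rintro f ⟨n, hf⟩
  obtain ⟨c, hc⟩ := h n f (M_mono C G (nsmul_le hE (by lia)) hf)
  refine ⟨fun x => ∑ i ∈ Finset.range (n + 1), Polynomial.C (c x i) * Polynomial.X ^ i, ?_⟩
  rw [hc]
  refine Finset.sum_congr rfl fun x hx => ?_
  congr 1
  rw [map_sum]
  refine Finset.sum_congr rfl fun i _ => ?_
  rw [map_mul, map_pow, Polynomial.aeval_X, Polynomial.aeval_C]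

theorem A1_gen (hw0 : constantCoeff w ≠ 0) : ∃ s : Finset (PowerSeries K), (∀ x ∈ s, x ∈ A1 C G E hw) ∧
    ∀ f ∈ A1 C G E hw, ∃ p : PowerSeries K → Polynomial (PowerSeries k),
      f = ∑ x ∈ s, Polynomial.aeval w⁻¹ (p x) * x := by
  classical
  obtain ⟨s, hs, h⟩ := exists_gen hC hE hw hw' hm
  have hww : w * w⁻¹ = 1 := PowerSeries.mul_inv_cancel w hw0
  have hwn : ∀ n : ℕ, w ^ n * w⁻¹ ^ n = 1 := fun n => by rw [← mul_pow, hww, one_pow]
  have hinj : Set.InjOn (fun x => w⁻¹ ^ (m + 1) * x) (s : Set (PowerSeries K)) := by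
    intro a _ b _ hab
    have h1 := congrArg (fun t => w ^ (m + 1) * t) hab
    simp only [← mul_assoc, hwn, one_mul] at h1
    exact h1
  refine ⟨s.image (fun x => w⁻¹ ^ (m + 1) * x), fun x hx => ?_, ?_⟩
  · obtain ⟨y, hy, rfl⟩ := Finset.mem_image.mp hx
    refine ⟨m + 1, ?_⟩
    rw [← mul_assoc, hwn, one_mul]
    exact hs y hy
  rintro f ⟨n, hf⟩
  have hf' : w ^ (m + 1 + n) * f ∈ M C G ((m + 1 + n) • E) := by
    rw [add_nsmul, pow_add, mul_assoc]
    exact mul_mem_M C G (pow_mem_M hw _) hf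
  obtain ⟨c, hc⟩ := h n _ hf'
  refine ⟨fun y => ∑ i ∈ Finset.range (n + 1), Polynomial.C (c (w ^ (m + 1) * y) i) * Polynomial.X ^ (n - i), ?_⟩
  rw [Finset.sum_image hinj]
  have h1 : f = w⁻¹ ^ (m + 1 + n) * (w ^ (m + 1 + n) * f) := by
    rw [← mul_assoc, mul_comm (w⁻¹ ^ _), hwn, one_mul]
  rw [h1, hc, Finset.mul_sum]
  refine Finset.sum_congr rfl fun x _ => ?_
  have h3 : w ^ (m + 1) * (w⁻¹ ^ (m + 1) * x) = x := by rw [← mul_assoc, hwn, one_mul]
  beta_reduce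
  rw [h3, map_sum]
  have h4 : w⁻¹ ^ (m + 1 + n) * ((∑ i ∈ Finset.range (n + 1), algebraMap _ _ (c x i) * w ^ i) * x) =
      (w⁻¹ ^ n * ∑ i ∈ Finset.range (n + 1), algebraMap _ _ (c x i) * w ^ i) * (w⁻¹ ^ (m + 1) * x) := by
    rw [pow_add]
    ring
  rw [h4]
  congr 1
  rw [Finset.mul_sum]
  refine Finset.sum_congr rfl fun i hi => ?_
  have hi' : i ≤ n := by
    have := Finset.mem_range.mp hi
    lia
  have h2 : w⁻¹ ^ n = w⁻¹ ^ (n - i) * w⁻¹ ^ i := by
    rw [← pow_add]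
    congr 1
    lia
  rw [h2, map_mul, map_pow, Polynomial.aeval_X, Polynomial.aeval_C]
  calc w⁻¹ ^ (n - i) * w⁻¹ ^ i * (algebraMap _ _ (c x i) * w ^ i)
      = algebraMap _ _ (c x i) * w⁻¹ ^ (n - i) * (w ^ i * w⁻¹ ^ i) := by ring
    _ = _ := by rw [hwn, mul_one]

end gen

section integral

/-- A ring homomorphism maps integral elements to integral elements. -/
theorem isIntegral_map {Ω : Type*} [CommRing Ω] (Φ : Ω →+* Ω) (A B : Subring Ω) (h : ∀ a ∈ A, Φ a ∈ B) {y : Ω}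
    (hy : IsIntegral A y) : IsIntegral B (Φ y) := by
  obtain ⟨p, hp, hp'⟩ := hy
  let ψ : A →+* B := (Φ.comp A.subtype).codRestrict B fun a => h a a.2
  refine ⟨p.map ψ, hp.map _, ?_⟩
  have h1 : (algebraMap B Ω).comp ψ = Φ.comp (algebraMap A Ω) := rfl
  rw [Polynomial.eval₂_map, h1, ← Polynomial.hom_eval₂, hp', map_zero]

theorem Φ_mem_BO {E : ι →₀ ℤ} {P : ι} (hP : E P = 0) {n : ℕ} {f : PowerSeries K} (hf : f ∈ M C G (n • E)) :
    G.Φ P f ∈ BO (C.v P) := by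
  have h1 := hf P
  have h2 : (n • E) P = 0 := by simp [hP]
  rw [h2] at h1
  exact h1

theorem Φ_mem_BB {E : ι →₀ ℤ} (hE : 0 ≤ E) (P : ι) {n : ℕ} {f : PowerSeries K} (hf : f ∈ M C G (n • E)) :
    G.Φ P f ∈ BB (C.v P) := by
  have h1 := hf P
  have h0 : 0 ≤ E P := hE P
  refine ⟨((n • E) P).toNat, ?_⟩
  have h2 : 0 ≤ (n • E) P := by
    simp only [Finsupp.coe_smul, Pi.smul_apply, nsmul_eq_mul]
    positivity
  rw [Int.toNat_of_nonneg h2]
  exact h1

theorem Φ_ne_zero (P : ι) {f : PowerSeries K} (hf : f ≠ 0) : G.Φ P f ≠ 0 := by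
  obtain ⟨n, g, hg, hg0⟩ : ∃ (n : ℕ) (g : PowerSeries K), f = X ^ n * g ∧ constantCoeff g ≠ 0 := by
    obtain ⟨g, hg⟩ := X_pow_order_dvd (φ := f)
    refine ⟨f.order.toNat, g, hg, ?_⟩
    intro h
    have h1 := coeff_order hf
    rw [hg] at h1
    apply h1
    conv_lhs => rw [← hg]
    have h2 : coeff f.order.toNat f = coeff f.order.toNat (X ^ f.order.toNat * g) := by rw [← hg]
    rw [h2, coeff_X_pow_mul', if_pos le_rfl, Nat.sub_self, coeff_zero_eq_constantCoeff_apply, h]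
  rw [hg, map_mul, map_pow, G.map_X]
  refine mul_ne_zero (pow_ne_zero _ X_ne_zero) fun h => hg0 ?_
  rw [← G.const P, h, map_zero]

/-- Elements of `K⟦X⟧` in the fraction field of `A0` and integral over `A0` are in `A0`. -/
theorem mem_A0_of_integral {E : ι →₀ ℤ} (hE : 0 ≤ E) {a b g : PowerSeries K} (ha : a ∈ A0 C G E hE)
    (hb : b ∈ A0 C G E hE) (ha0 : a ≠ 0) (h : b = a * g) (hg : IsIntegral (A0 C G E hE).toSubring g) :
    g ∈ A0 C G E hE := by
  classical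
  obtain ⟨na, ha⟩ := ha
  obtain ⟨nb, hb⟩ := hb
  have h1 : ∀ P, E P = 0 → Le (C.v P) 0 (G.Φ P g) := by
    intro P hP
    obtain ⟨π, hπ⟩ := C.exists_unif P
    have := isIntegrallyClosed_BO hπ
    refine mem_of_integral (BO (C.v P)) (Φ_mem_BO hP ha) (Φ_mem_BO hP hb) (Φ_ne_zero P ha0) ?_
      (isIntegral_map (G.Φ P) _ _ ?_ hg)
    · rw [h, map_mul]
    · rintro f ⟨n, hf⟩
      exact Φ_mem_BO hP hf
  have h2 : ∀ P, ∃ n : ℕ, Le (C.v P) n (G.Φ P g) := by
    intro P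
    obtain ⟨π, hπ⟩ := C.exists_unif P
    have := isIntegrallyClosed_BB hπ
    refine mem_of_integral (BB (C.v P)) (Φ_mem_BB hE P ha) (Φ_mem_BB hE P hb) (Φ_ne_zero P ha0) ?_
      (isIntegral_map (G.Φ P) _ _ ?_ hg)
    · rw [h, map_mul]
    · rintro f ⟨n, hf⟩
      exact Φ_mem_BB hE P hf
  choose N hN using h2
  refine ⟨E.support.sup N, fun P => ?_⟩
  by_cases hP : E P = 0
  · refine (h1 P hP).mono ?_
    simp [hP]
  · refine (hN P).mono ?_
    have h3 : N P ≤ E.support.sup N := Finset.le_sup (f := N) (Finsupp.mem_support_iff.mpr hP)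
    have h4 : 0 ≤ E P := hE P
    simp only [Finsupp.coe_smul, Pi.smul_apply, nsmul_eq_mul]
    have h5 : (N P : ℤ) ≤ (E.support.sup N : ℕ) := by exact_mod_cast h3
    have h6 : 1 ≤ E P := by lia
    nlinarith

end integral

end K538.Patch
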