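import Groth.Agent.Curves.K538.PatchInt
import Groth.Agent.MiscA.WCPlaceRes
import Mathlib.RingTheory.Valuation.LocalSubring

/-!
# The special fibre of the chart rings, and the existence of a good function
-/

set_option autoImplicit false

universe u

open WithZero PowerSeries

namespace K538.Patch

open Groth.Agent.Models.FFRR Groth.Agent.Models.FFLen K538.ValSer Groth.Agent.MiscA.WCPlace
  Groth.Agent.MiscA.WCPlaceCrv

section place

variable {k K : Type u} [Field k] [Field K] [Algebra k K]

/-- Elements integral over `k[w]` are those in all places containing `w`. -/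
theorem isIntegral_adjoin_iff (w y : K) : IsIntegral (Algebra.adjoin k {w}) y ↔
    ∀ P : Place k K, w ∈ P.1 → y ∈ P.1 := by
  constructor
  · intro hy P hP
    exact mem_of_isIntegral P.1 (adjoin_le_of_mem P hP) hy
  · intro h
    by_contra hfa
    have h1 : y ∉ (integralClosure (Algebra.adjoin k {w}) K).toSubring := hfa
    have h2 : IsIntegrallyClosedIn (integralClosure (Algebra.adjoin k {w}) K).toSubring K := by
      have : IsIntegrallyClosedIn (integralClosure (Algebra.adjoin k {w}) K) K := inferInstance
      exact this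
    obtain ⟨V, hV, hfV⟩ := Subring.exists_le_valuationSubring_of_isIntegrallyClosedIn h1
    refine hfV (h ⟨V, ?_, ?_⟩ ?_)
    · rintro rfl
      exact hfV (ValuationSubring.mem_top _)
    · intro a
      have := (integralClosure (Algebra.adjoin k {w}) K).algebraMap_mem
        (algebraMap k (Algebra.adjoin k {w}) a)
      exact hV this
    · have := (integralClosure (Algebra.adjoin k {w}) K).algebraMap_mem
        ⟨w, Algebra.subset_adjoin rfl⟩
      exact hV this

variable (h : ∃ t : K, IsSep k K t)

theorem val_le_one_iff' (P : Place k K) (x : K) : (crv h).v P x ≤ 1 ↔ x ∈ P.1 := by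
  obtain ⟨t, ht⟩ := h
  exact ht.val_le_one_iff P x

theorem exists_nat_bound (P : Place k K) (y : K) : ∃ m : ℕ, (crv h).v P y ≤ exp (m : ℤ) := by
  by_cases hy : y = 0
  · exact ⟨0, by rw [hy, map_zero]; exact zero_le⟩
  · obtain ⟨n, hn⟩ := eq_exp (v := (crv h).v P) hy
    refine ⟨n.toNat, ?_⟩
    rw [hn, exp_le_exp]
    exact Int.self_le_toNat n

variable {E : Place k K →₀ ℤ} (hE : 0 ≤ E) {w : K} (hw : ∀ P, (crv h).v P w ≤ exp (E P))
  (hw' : ∀ P, E P ≠ 0 → (crv h).v P w = exp (E P))

include hE hw hw'

theorem integral_iff0 (y : K) : IsIntegral (Algebra.adjoin k {w}) y ↔ ∃ n : ℕ, y ∈ (crv h).L (n • E) := by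
  rw [isIntegral_adjoin_iff]
  constructor
  · intro hy
    choose m hm using fun P => exists_nat_bound h P y
    refine ⟨E.support.sup m, ?_⟩
    rw [(crv h).mem_L]
    intro P
    have e1 : ((E.support.sup m) • E) P = (E.support.sup m : ℕ) * E P := by simp
    rw [e1]
    by_cases hP : E P = 0
    · rw [hP, mul_zero, exp_zero, val_le_one_iff']
      apply hy
      rw [← val_le_one_iff' h, ← exp_zero, ← hP]
      exact hw P
    · refine (hm P).trans (exp_le_exp.mpr ?_)
      have h3 : m P ≤ E.support.sup m := Finset.le_sup (f := m) (Finsupp.mem_support_iff.mpr hP)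
      have h4 : 0 ≤ E P := hE P
      have h5 : (m P : ℤ) ≤ (E.support.sup m : ℕ) := by exact_mod_cast h3
      have h6 : 1 ≤ E P := by lia
      nlinarith
  · rintro ⟨n, hn⟩ P hP
    rw [(crv h).mem_L] at hn
    have h1 := hn P
    have e1 : (n • E) P = n * E P := by simp
    have h2 : E P = 0 := by
      by_contra h3
      rw [← val_le_one_iff' h, hw' P h3, ← exp_zero, exp_le_exp] at hP
      have h4 : 0 ≤ E P := hE P
      lia
    rw [e1, h2, mul_zero, exp_zero, val_le_one_iff'] at h1
    exact h1

theorem integral_iff1 (hw0 : w ≠ 0) (y : K) : IsIntegral (Algebra.adjoin k {w⁻¹}) y ↔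
    ∃ n : ℕ, w ^ n * y ∈ (crv h).L (n • E) := by
  rw [isIntegral_adjoin_iff]
  constructor
  · intro hy
    choose m hm using fun P => exists_nat_bound h P y
    let S := (crv h).finite_pole y
    refine ⟨S.toFinset.sup m, ?_⟩
    set n := S.toFinset.sup m with hn
    rw [(crv h).mem_L]
    intro P
    have e1 : (n • E) P = n * E P := by simp
    rw [e1, map_mul, map_pow]
    by_cases hP : w⁻¹ ∈ P.1
    · have h1 := (val_le_one_iff' h P y).mpr (hy P hP)
      calc (crv h).v P w ^ n * (crv h).v P y ≤ exp (E P) ^ n * 1 :=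
            mul_le_mul' (pow_le_pow_left' (hw P) n) h1
        _ = exp (n * E P) := by rw [mul_one, ← exp_nsmul, nsmul_eq_mul]
    · have hP1 : ¬ (crv h).v P w⁻¹ ≤ 1 := fun h2 => hP ((val_le_one_iff' h P _).mp h2)
      have hP2 : E P = 0 := by
        by_contra h3
        apply hP1
        rw [map_inv₀, hw' P h3, ← exp_neg, ← exp_zero, exp_le_exp]
        have h4 : 0 ≤ E P := hE P
        lia
      obtain ⟨j, hj⟩ := eq_exp (v := (crv h).v P) hw0
      have hj1 : j ≤ -1 := by
        rw [map_inv₀, hj, ← exp_neg, ← exp_zero, exp_le_exp] at hP1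
        lia
      rw [hP2, mul_zero, hj, ← exp_nsmul]
      by_cases hyP : (crv h).v P y ≤ 1
      · calc exp (n • j) * (crv h).v P y ≤ exp 0 * 1 := by
              refine mul_le_mul' (exp_le_exp.mpr ?_) hyP
              rw [nsmul_eq_mul]
              nlinarith [Int.natCast_nonneg n]
          _ = exp 0 := mul_one _
      · have h3 : m P ≤ n := Finset.le_sup (f := m) (by simpa [S] using hyP)
        calc exp (n • j) * (crv h).v P y ≤ exp (n • j) * exp (m P : ℤ) := mul_le_mul' le_rfl (hm P)
          _ = exp (n • j + m P) := by rw [← exp_add]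
          _ ≤ exp 0 := by
              rw [exp_le_exp, nsmul_eq_mul]
              have h5 : (m P : ℤ) ≤ n := by exact_mod_cast h3
              nlinarith [Int.natCast_nonneg n]
  · rintro ⟨n, hn⟩ P hP
    rw [(crv h).mem_L] at hn
    have h1 := hn P
    have e1 : (n • E) P = n * E P := by simp
    rw [e1, map_mul, map_pow] at h1
    obtain ⟨j, hj⟩ := eq_exp (v := (crv h).v P) hw0
    have hj1 : 0 ≤ j := by
      rw [← val_le_one_iff' h, map_inv₀, hj, ← exp_neg, ← exp_zero, exp_le_exp] at hP
      lia
    have hj2 : j = E P := by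
      by_cases hP2 : E P = 0
      · have := hw P
        rw [hj, exp_le_exp, hP2] at this
        lia
      · have := hw' P hP2
        rw [hj] at this
        exact exp_injective this
    rw [hj, ← exp_nsmul, hj2] at h1
    rw [← val_le_one_iff' h]
    have h2 : (exp (-(n * E P)) : ℤᵐ⁰) * (exp (n • E P) * (crv h).v P y) ≤ exp (-(n * E P)) * exp (n * E P) :=
      mul_le_mul' le_rfl h1
    rw [← mul_assoc, ← exp_add, ← exp_add, nsmul_eq_mul, neg_add_cancel, exp_zero, one_mul] at h2
    exact h2

end place

/-- A function with prescribed pole divisor. -/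
theorem exists_w {k K ι : Type*} [Field k] [Field K] [Algebra k K] {C : Crv k K ι} {D : ι →₀ ℤ} (hD : 0 ≤ D)
    {e : ℕ} (he : Good C (e • D)) : ∃ w : K, (∀ P, C.v P w ≤ exp (((e + 1) • D) P)) ∧
      ∀ P, ((e + 1) • D) P ≠ 0 → C.v P w = exp (((e + 1) • D) P) := by
  classical
  choose a ha using fun P => C.exists_v_eq P (((e + 1) • D) P)
  let α : ι → K := fun P => if D P = 0 then 0 else a P
  obtain ⟨b, hb⟩ := he.exists (α := α) (by
    refine (D.support.finite_toSet).subset fun P hP => ?_
    simp only [Finset.mem_coe, Finsupp.mem_support_iff]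
    intro h
    apply hP
    simp [α, h])
  have e1 : ∀ P, ((e + 1) • D) P = (e + 1) * D P := fun P => by simp
  have e2 : ∀ P, (e • D) P = e * D P := fun P => by simp
  have key : ∀ P, D P ≠ 0 → C.v P b = exp (((e + 1) • D) P) := by
    intro P hP
    have h1 := hb P
    simp only [α, if_neg hP] at h1
    have h0 : 0 ≤ D P := hD P
    have h2 : C.v P (b - a P) < C.v P (a P) := by
      rw [ha P]
      refine h1.trans_lt (exp_lt_exp.mpr ?_)
      rw [e1, e2]
      have : 1 ≤ D P := by lia
      nlinarith
    have h3 := Valuation.map_add_eq_of_lt_left (C.v P) h2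
    rw [add_sub_cancel, ha P] at h3
    exact h3
  refine ⟨b, fun P => ?_, fun P hP => key P ?_⟩
  · by_cases hP : D P = 0
    · have h1 := hb P
      simp only [α, if_pos hP, sub_zero] at h1
      rw [e2, hP, mul_zero] at h1
      rw [e1, hP, mul_zero]
      exact h1
    · exact (key P hP).le
  · intro h
    apply hP
    rw [e1, h, mul_zero]

end K538.Patch
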